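import Cfsg.Agent.Lib.SmallGroups.Omega7Three.Code
import Cfsg.Agent.Lib.Classical.OmegaOdd
import Cfsg.Agent.Lib.Classical.SpinorMatrix
import Cfsg.Agent.Lib.Classical.QuadStd

/-!
The orthogonal group in seven variables over the field with three elements as a group of
matrices in a hyperbolic basis ordered along a flag, and the four cosets of its commutator subgroup.
-/

set_option autoImplicit false

namespace CfsgLib.SmallGroups.Omega7Three

open Matrix CfsgLib.Classical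

instance instFactPrimeThree : Fact (Nat.Prime 3) := ⟨Nat.prime_three⟩

/-- The Gram matrix of the polar form. -/
def G7 : M7 := Matrix.of fun i k => if i.val + k.val = 6 then (if i.val = 3 then 2 else 1) else 0

theorem G7_transpose : G7ᵀ = G7 := by decide +kernel

/-- The isometry group as a matrix group. -/
def O7 : Subgroup (GL (Fin 7) (ZMod 3)) where
  carrier := {g | (g : M7)ᵀ * G7 * (g : M7) = G7}
  one_mem' := by simp
  mul_mem' {a b} ha hb := by
    change (Units.val (a * b) : M7)ᵀ * G7 * Units.val (a * b) = G7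
    have ha' : (a : M7)ᵀ * G7 * (a : M7) = G7 := ha
    have hb' : (b : M7)ᵀ * G7 * (b : M7) = G7 := hb
    calc _ = (b : M7)ᵀ * ((a : M7)ᵀ * G7 * (a : M7)) * (b : M7) := by
          rw [Units.val_mul, transpose_mul]; simp only [Matrix.mul_assoc]
      _ = G7 := by rw [ha', hb']
  inv_mem' {a} ha := by
    change (Units.val a⁻¹ : M7)ᵀ * G7 * Units.val a⁻¹ = G7
    have ha' : (a : M7)ᵀ * G7 * (a : M7) = G7 := ha
    calc _ = ((a : M7) * Units.val a⁻¹)ᵀ * G7 * ((a : M7) * Units.val a⁻¹) := by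
          conv_lhs => rw [← ha']
          rw [transpose_mul]; simp only [Matrix.mul_assoc]
      _ = G7 := by rw [← Units.val_mul, mul_inv_cancel]; simp

/-- The matrix of an element. -/
def val7 : O7 →* M7 := (Units.coeHom M7).comp O7.subtype

theorem val7_injective : Function.Injective val7 := fun _ _ h => Subtype.ext (Units.ext h)

theorem val7_mem (g : O7) : (val7 g)ᵀ * G7 * val7 g = G7 := g.2

theorem exists_of_gram {M : M7} (hM : Mᵀ * G7 * M = G7) : ∃ g : O7, val7 g = M := by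
  have hG : (G7 * G7 : M7) = 1 := by decide +kernel
  have hl : (G7 * Mᵀ * G7) * M = 1 := by
    rw [Matrix.mul_assoc G7 Mᵀ, Matrix.mul_assoc G7, hM, hG]
  exact ⟨⟨⟨M, G7 * Mᵀ * G7, mul_eq_one_comm.1 hl, hl⟩, hM⟩, rfl⟩

/-- The hyperbolic basis ordered along a flag. -/
def flagEquiv : OddI 3 ≃ Fin 7 where
  toFun := fun
    | .inl _ => 3
    | .inr (.inl i) => ⟨i.val, by omega⟩
    | .inr (.inr i) => ⟨6 - i.val, by omega⟩
  invFun := ![oL 0, oL 1, oL 2, oZ, oR 2, oR 1, oR 0]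
  left_inv := by unfold Function.LeftInverse; decide
  right_inv := by unfold Function.RightInverse Function.LeftInverse; decide

/-- The quadratic form in the ordered basis. -/
def q7 (v : Fin 7 → ZMod 3) : ZMod 3 := 2 * (v ⬝ᵥ (G7 *ᵥ v))

theorem flagEquiv_apply : flagEquiv oZ = 3 ∧ flagEquiv (oL 0) = 0 ∧ flagEquiv (oL 1) = 1 ∧ flagEquiv (oL 2) = 2 ∧
    flagEquiv (oR 0) = 6 ∧ flagEquiv (oR 1) = 5 ∧ flagEquiv (oR 2) = 4 := by decide

theorem q7_eq (v : Fin 7 → ZMod 3) : qOdd 3 (ZMod 3) (v ∘ flagEquiv) = q7 v := by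
  have h3 : (3 : ZMod 3) = 0 := rfl
  simp only [qOdd_apply, q7, dotProduct, mulVec, G7, Matrix.of_apply, Fin.sum_univ_seven, Fin.sum_univ_three,
    Function.comp_apply, flagEquiv_apply, ite_mul, zero_mul]
  norm_num [Fin.val_ofNat]
  linear_combination (-(v 3 * v 3) - v 0 * v 6 - v 1 * v 5 - v 2 * v 4) * h3

theorem mem_O7_iff (g : GL (Fin 7) (ZMod 3)) : g ∈ O7 ↔ ∀ v, q7 ((g : M7) *ᵥ v) = q7 v := by
  change (g : M7)ᵀ * G7 * (g : M7) = G7 ↔ _
  have e : ∀ u w, ((g : M7) *ᵥ u) ⬝ᵥ (G7 *ᵥ ((g : M7) *ᵥ w)) = u ⬝ᵥ (((g : M7)ᵀ * G7 * (g : M7)) *ᵥ w) := by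
    intro u w
    rw [← mulVec_mulVec, ← mulVec_mulVec, dotProduct_mulVec u (g : M7)ᵀ, vecMul_transpose]
  refine ⟨fun h v => by rw [q7, q7, e, h], fun h => ?_⟩
  have hs : ∀ u w : Fin 7 → ZMod 3, u ⬝ᵥ (G7 *ᵥ w) = q7 (u + w) - q7 u - q7 w := by
    intro u w
    have h3 : (3 : ZMod 3) = 0 := rfl
    have hsym : w ⬝ᵥ (G7 *ᵥ u) = u ⬝ᵥ (G7 *ᵥ w) := by
      rw [dotProduct_mulVec, ← mulVec_transpose, G7_transpose, dotProduct_comm]
    simp only [q7, mulVec_add, add_dotProduct, dotProduct_add, hsym]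
    linear_combination -(u ⬝ᵥ (G7 *ᵥ w)) * h3
  ext i j
  have := e (Pi.single i 1) (Pi.single j 1)
  rw [hs, ← mulVec_add, h, h, h, ← hs] at this
  simpa using this.symm

/-- The matrix model of the isometry group. -/
theorem exists_model : ∃ φ : Cfsg.isometryGroup (ZMod 3) ⇑(qOdd 3 (ZMod 3)) ≃* O7,
    ∀ g, val7 (φ g) = (((g : GL (OddI 3) (ZMod 3)) : Matrix (OddI 3) (OddI 3) (ZMod 3))).submatrix
      flagEquiv.symm flagEquiv.symm := by
  let ψ : GL (OddI 3) (ZMod 3) ≃* GL (Fin 7) (ZMod 3) :=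
    Units.mapEquiv (Matrix.reindexAlgEquiv (ZMod 3) (ZMod 3) flagEquiv).toMulEquiv
  have hψ : ∀ g, ((ψ g : GL (Fin 7) (ZMod 3)) : M7) =
      ((g : GL (OddI 3) (ZMod 3)) : Matrix (OddI 3) (OddI 3) (ZMod 3)).submatrix
        flagEquiv.symm flagEquiv.symm := fun g => rfl
  have hmap : (Cfsg.isometryGroup (ZMod 3) ⇑(qOdd 3 (ZMod 3))).map ψ.toMonoidHom = O7 := by
    ext g
    rw [Subgroup.mem_map_equiv, mem_O7_iff]
    have hq : ∀ v, ((g : M7) *ᵥ v) ∘ flagEquiv =
        ((ψ.symm g : GL (OddI 3) (ZMod 3)) : Matrix (OddI 3) (OddI 3) (ZMod 3)) *ᵥ (v ∘ flagEquiv) := by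
      intro v
      conv_lhs => rw [← ψ.apply_symm_apply g, hψ, submatrix_mulVec_equiv]
      ext k
      simp [Function.comp_def]
    refine ⟨fun h v => ?_, fun h u w => ?_⟩
    · rw [← q7_eq, ← q7_eq, hq]; exact h _ (v ∘ flagEquiv)
    · change qOdd 3 (ZMod 3) (_ *ᵥ u) = qOdd 3 (ZMod 3) u
      have := h (u ∘ flagEquiv.symm)
      rw [← q7_eq, ← q7_eq, hq] at this
      simpa [Function.comp_def] using this
  exact ⟨(ψ.subgroupMap _).trans (MulEquiv.subgroupCongr hmap), fun g => hψ g⟩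

theorem card_O7 : Nat.card O7 = 2 * 3 ^ 9 * (8 * 80 * 728) := by
  obtain ⟨φ, -⟩ := exists_model
  have h2 : (2 : ZMod 3) ≠ 0 := by decide
  rw [← Nat.card_congr φ.toEquiv, card_isometryGroup_coe _ rfl,
    ← Nat.card_congr (qAutCongr (oddLin 3 (ZMod 3)) (qOdd_oddLin 3)).toEquiv, card_qAut_line h2 3]
  simp [Finset.prod_range_succ]

/-- The commutator subgroup. -/
abbrev W7 : Subgroup O7 := commutator O7

theorem index_W7 : W7.index = 4 := by
  obtain ⟨φ, -⟩ := exists_model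
  have h2 : (2 : ZMod 3) ≠ 0 := by decide
  rw [← index_commutator_congr φ, index_commutator_congr (isoEquiv (qOdd 3 (ZMod 3)))]
  exact index_commutator_odd _ h2 (polarNondeg_qOdd h2 3) (by simp [OddI])

theorem det_W7 {g : O7} (hg : g ∈ W7) : (val7 g).det = 1 := by
  have := Abelianization.commutator_subset_ker ((GeneralLinearGroup.det : GL (Fin 7) (ZMod 3) →* (ZMod 3)ˣ).comp
    O7.subtype) hg
  simpa [val7] using congrArg Units.val (MonoidHom.mem_ker.1 this)

/-- The torus element of determinant one outside the commutator subgroup. -/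
def tMat : M7 := Matrix.diagonal ![2, 1, 1, 1, 1, 1, 2]

theorem exists_tElt : ∃ t : O7, val7 t = tMat ∧ t ∉ W7 := by
  obtain ⟨φ, hφ⟩ := exists_model
  have h2 : (2 : ZMod 3) ≠ 0 := by decide
  have hu : qOdd 3 (ZMod 3) (oU 0) ≠ 0 := by rw [qOdd_oU]; decide
  have hw : qOdd 3 (ZMod 3) (oW 0) ≠ 0 := by rw [qOdd_oW]; decide
  set g := reflect (qOdd 3 (ZMod 3)) (oU 0) hu * reflect (qOdd 3 (ZMod 3)) (oW 0) hw with hg
  have hmat : ((g : GL (OddI 3) (ZMod 3)) : Matrix (OddI 3) (OddI 3) (ZMod 3)) =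
      Cfsg.reflectionMatrix (⇑(qOdd 3 (ZMod 3))) (oU 0) *
        Cfsg.reflectionMatrix (⇑(qOdd 3 (ZMod 3))) (oW 0) := by
    rw [hg, Subgroup.coe_mul, Units.val_mul, reflect_coe, reflect_coe]
  refine ⟨φ g, ?_, fun h => ?_⟩
  · rw [hφ, hmat, coe_qOdd]
    decide +kernel
  · have h' : g ∈ Cfsg.Omega (ZMod 3) ⇑(qOdd 3 (ZMod 3)) := by
      change φ g ∈ commutator O7 at h
      rw [← map_commutator_equiv φ] at h
      exact (Subgroup.mem_map_iff_mem φ.injective).1 h
    have := (Spin.mem_Omega_refl_list_iff _ (polarNondeg_qOdd h2 3) (Or.inl (by simp)) g [oU 0, oW 0]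
      (by simp [hu, hw]) (by simp [hmat])).1 h'
    simp [qOdd_oU, qOdd_oW] at this
    exact absurd this (by decide +kernel)

/-- The torus element. -/
noncomputable def tElt : O7 := exists_tElt.choose

theorem val_tElt : val7 tElt = tMat := exists_tElt.choose_spec.1

theorem tElt_notMem : tElt ∉ W7 := exists_tElt.choose_spec.2

/-- Minus the identity. -/
def negElt : O7 := ⟨-1, by change ((-1 : GL (Fin 7) (ZMod 3)) : M7)ᵀ * G7 * _ = G7; simp⟩

theorem val_negElt : val7 negElt = -1 := rfl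

theorem negElt_central (g : O7) : negElt * g = g * negElt :=
  val7_injective (by rw [map_mul, map_mul, val_negElt]; simp)

/-- Coset representatives of the commutator subgroup. -/
noncomputable def cosetRep : Fin 4 → O7 := ![1, tElt, negElt, negElt * tElt]

theorem exists_coset (g : O7) : ∃ a, (cosetRep a)⁻¹ * g ∈ W7 := by
  let π : O7 →* O7 ⧸ W7 := QuotientGroup.mk' W7
  have hn : ¬ ((-1 : M7).det = 1) ∧ ¬ ((-1 * tMat : M7).det = 1) ∧ tMat * tMat = 1 := by
    refine ⟨?_, ?_, ?_⟩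
    · rw [det_neg, det_one]; decide
    · rw [det_mul, det_neg, det_one, tMat, det_diagonal]; decide
    · decide +kernel
  have hnot : ∀ a b : Fin 4, a ≠ b → π (cosetRep a) ≠ π (cosetRep b) := by
    have ht2 : tElt * tElt = 1 := val7_injective (by rw [map_mul, map_one, val_tElt, hn.2.2])
    have h1 : π negElt ≠ 1 := fun h => hn.1 (val_negElt ▸ det_W7 ((QuotientGroup.eq_one_iff _).1 h))
    have h2 : π negElt * π tElt ≠ 1 := fun h => hn.2.1 (by
      have := det_W7 ((QuotientGroup.eq_one_iff _).1 ((map_mul π _ _).trans h))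
      rwa [map_mul, val_negElt, val_tElt] at this)
    have h3 : π tElt ≠ 1 := fun h => tElt_notMem ((QuotientGroup.eq_one_iff _).1 h)
    have h4 : π tElt * π tElt = 1 := by rw [← map_mul, ht2, map_one]
    intro a b hab
    fin_cases a <;> fin_cases b <;> simp [cosetRep] at hab ⊢ <;>
      first
        | assumption
        | exact Ne.symm h1 | exact Ne.symm h2 | exact Ne.symm h3
        | (intro h; exact h2 (by rw [h, h4]))
        | (intro h; exact h2 (by rw [← h, h4]))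
  have hbij : Function.Bijective fun a => π (cosetRep a) := by
    have : Fintype (O7 ⧸ W7) := Fintype.ofFinite _
    rw [Fintype.bijective_iff_injective_and_card]
    refine ⟨fun a b h => by_contra fun hne => hnot a b hne h, ?_⟩
    rw [Fintype.card_fin, ← Nat.card_eq_fintype_card, ← Subgroup.index_eq_card, index_W7]
  obtain ⟨a, ha⟩ := hbij.2 (π g)
  exact ⟨a, QuotientGroup.eq.1 ha⟩

theorem mem_W7_of_pow_three {g : O7} {k : ℕ} (hg : g ^ 3 ^ k = 1) : g ∈ W7 := by
  rw [← QuotientGroup.eq_one_iff, ← orderOf_eq_one_iff]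
  have h1 := orderOf_dvd_natCard (G := O7 ⧸ W7) (g : O7 ⧸ W7)
  rw [← Subgroup.index_eq_card, index_W7] at h1
  have h2 : orderOf (g : O7 ⧸ W7) ∣ 3 ^ k :=
    orderOf_dvd_of_pow_eq_one (by rw [← QuotientGroup.mk_pow, hg, QuotientGroup.mk_one])
  exact Nat.eq_one_of_dvd_coprimes (Nat.Coprime.pow_right k (by norm_num)) h1 h2

end CfsgLib.SmallGroups.Omega7Three
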