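import Cfsg.Agent.Lib.SmallGroups.Omega7Three.Code

/-!
Class representatives and auxiliary matrices for the elements of order three, as lists of rows
with ternary digits.
-/

set_option autoImplicit false

namespace CfsgLib.SmallGroups.Omega7Three

/-- Representatives of the classes of elements of order three. -/
def repData : List (List ℕ) :=
  [[1,417,252,27,567,243,729],
   [1,84,495,27,81,243,729],
   [1,3,198,108,81,243,729],
   [1486,579,495,756,567,243,729],
   [82,750,1467,27,324,243,729],
   [244,1461,198,108,81,243,729],
   [487,732,198,108,81,243,729]]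

/-- Root elements. -/
def rootData : List (List ℕ) :=
  [[7,3,9,27,81,972,729],
   [1,21,9,27,324,243,729],
   [1,3,198,108,81,243,729],
   [1,4,9,27,81,243,1215],
   [1,3,12,27,81,405,729],
   [1,3,9,36,126,243,729]]

/-- Centralising elements in the coset of the torus element, with a word in the root elements
and the torus element. -/
def centData : List (List ℕ × List ℕ) :=
  [([2,3,9,27,81,243,1458], [6]),
   ([2,3,9,27,81,243,1458], [6]),
   ([2,3,9,27,81,243,1458], [6]),
   ([3,1,225,90,153,729,243], [5,0,0,3,3,0,0,6,2,2]),
   ([2,6,18,27,162,486,1458], [1,4,1,1,4,1,6])]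

/-- Triangular elements reducing the Levi factor. -/
def borelData : List (List ℕ) :=
  [[1,3,9,27,81,243,729],
   [1,3,18,27,162,243,729],
   [7,3,9,27,81,972,729],
   [4,3,18,27,162,1701,729],
   [4,3,9,27,81,1701,729],
   [7,3,18,27,162,972,729],
   [1,12,9,27,567,243,729],
   [1,21,9,27,324,243,729],
   [1,6,9,27,81,486,729],
   [1,6,18,27,162,486,729],
   [1,15,9,27,324,486,729],
   [1,15,18,27,648,486,729],
   [1,24,9,27,567,486,729],
   [1,24,18,27,405,486,729]]

end CfsgLib.SmallGroups.Omega7Three
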