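import Cfsg.Agent.Lib.SmallGroups.Omega7Three.Param
import Cfsg.Agent.Lib.SmallGroups.Omega7Three.Data

/-!
The checker for conjugacy certificates of elements of order three in the unitriangular subgroup.
-/

set_option autoImplicit false

namespace CfsgLib.SmallGroups.Omega7Three

open Matrix

/-- The representative matrices. -/
def repMat (k : Fin 7) : M7 := matOf (repData.getD k.val [])

/-- A matrix conjugate to a representative in the orthogonal group. -/
def Covered (M : M7) : Prop := ∃ k : Fin 7, ∃ g : O7, val7 g * M = repMat k * val7 g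

/-- The packed representatives. -/
def repC : List (List ℕ) := repData.map codeOf

/-- The check at one element. -/
def checkOne (Gc : List ℕ) (X : List ℕ) : Option (ℕ × List ℕ) → Bool
  | none => (X == oneC) || oneC.any (fun e => red (rowMul (red (rowMul (red (rowMul e X)) X)) X) != e)
  | some c =>
    let g := codeOf c.2
    decide (c.1 < 7) && (mulC (mulC (trC 7 g) Gc) g == Gc) && (mulC g X == mulC (repC.getD c.1 []) g)

theorem fixed_of_mulC_cube {A X : List ℕ} (h : mulC (mulC (mulC A X) X) X = A) :
    ∀ e ∈ A, red (rowMul (red (rowMul (red (rowMul e X)) X)) X) = e := by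
  induction A with
  | nil => intro e he; exact absurd he List.not_mem_nil
  | cons a A ih =>
    simp only [mulC, List.map_cons, List.cons.injEq] at h ih
    intro e he
    rcases List.mem_cons.1 he with rfl | he
    · exact h.1
    · exact ih h.2 e he

theorem covered_of_checkOne {M : M7} {c : Option (ℕ × List ℕ)}
    (h : checkOne (rows G7) (rows M) c = true) (h3 : M ^ 3 = 1) : M = 1 ∨ Covered M := by
  cases c with
  | none =>
    simp only [checkOne, Bool.or_eq_true, beq_iff_eq, List.any_eq_true, bne_iff_ne] at h
    rcases h with h | ⟨e, he, hne⟩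
    · exact Or.inl (rows_injective (h.trans rows_one.symm))
    · have hc : rows (1 * M * M * M) = rows 1 := by rw [one_mul, ← pow_two, ← pow_succ, h3]
      rw [rows_mul, rows_mul, rows_mul, rows_one] at hc
      exact absurd (fixed_of_mulC_cube hc e he) hne
  | some c =>
    obtain ⟨k, l⟩ := c
    simp only [checkOne, Bool.and_eq_true, decide_eq_true_eq, beq_iff_eq] at h
    obtain ⟨⟨hk, hG⟩, hx⟩ := h
    obtain ⟨g, hg⟩ := exists_of_gram (M := matOf l) (rows_injective (by
      rw [rows_mul, rows_mul, rows_transpose, rows_matOf, hG]))
    refine Or.inr ⟨⟨k, hk⟩, g, rows_injective ?_⟩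
    have hrep : rows (repMat ⟨k, hk⟩) = repC.getD k [] := by
      rw [repMat, rows_matOf, repC, List.getD_eq_getElem _ _ (by simpa [repData] using hk),
        List.getD_eq_getElem _ _ (by simpa [repData] using hk), List.getElem_map]
    rw [rows_mul, rows_mul, hg, rows_matOf, hrep, hx]

/-- All pairs in two lists of equal length satisfy a test. -/
def all2 {α β : Type} (f : α → β → Bool) : List α → List β → Bool
  | [], [] => true
  | a :: as, b :: bs => f a b && all2 f as bs
  | _, _ => false

theorem exists_of_all2 {α β : Type} {f : α → β → Bool} : ∀ {as : List α} {bs : List β},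
    all2 f as bs = true → ∀ a ∈ as, ∃ b, f a b = true
  | [], _, _, a, ha => absurd ha (List.not_mem_nil)
  | _ :: _, [], h, _, _ => absurd h (by simp [all2])
  | a :: as, b :: bs, h, x, hx => by
    simp only [all2, Bool.and_eq_true] at h
    rcases List.mem_cons.1 hx with rfl | hx
    · exact ⟨b, h.1⟩
    · exact exists_of_all2 h.2 x hx

/-- All triples. -/
def triples : List T3 :=
  [0, 1, 2].flatMap fun a => [0, 1, 2].flatMap fun b => [0, 1, 2].map fun c => (a, b, c)

theorem mem_triples : ∀ t : T3, t ∈ triples := by decide +kernel

/-- The check of the elements with a given Levi factor. -/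
def checkLevi (b : T3) (tbl : List (List (Option (ℕ × List ℕ)))) : Bool :=
  let Gc := rows G7
  let Ac := rows (aMat b)
  let Zs := triples.map fun s => rows (zMat s)
  all2 (fun q row =>
    let AN := mulC Ac (rows (nMat q))
    all2 (fun Z c => checkOne Gc (mulC AN Z) c) Zs row) triples tbl

theorem covered_of_checkLevi {b : T3} {tbl : List (List (Option (ℕ × List ℕ)))}
    (h : checkLevi b tbl = true) (q s : T3) (h3 : (aMat b * nMat q * zMat s) ^ 3 = 1) :
    aMat b * nMat q * zMat s = 1 ∨ Covered (aMat b * nMat q * zMat s) := by
  obtain ⟨row, hrow⟩ := exists_of_all2 h q (mem_triples q)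
  obtain ⟨c, hc⟩ := exists_of_all2 hrow (rows (zMat s)) (List.mem_map.2 ⟨s, mem_triples s, rfl⟩)
  rw [← rows_mul, ← rows_mul] at hc
  exact covered_of_checkOne hc h3

end CfsgLib.SmallGroups.Omega7Three
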