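import Cfsg.Agent.Lib.SmallGroups.Omega7Three.Cert

/-!
Conjugacy certificates for the Levi factor (1, 0, 0).
-/

set_option autoImplicit false

namespace CfsgLib.SmallGroups.Omega7Three

def certTable1Row0 : List (Option (ℕ × List ℕ)) :=
  [some (1, [18,1,243,54,3,729,162]),
    some (4, [18,2,3,27,243,1458,162]),
    some (4, [18,1,6,27,486,729,162]),
    some (1, [6,1,15,33,84,729,684]),
    some (4, [18,5,3,27,972,1458,162]),
    some (4, [18,4,6,27,1215,729,162]),
    some (1, [3,1,24,33,165,729,468]),
    some (4, [1,9,243,54,3,81,729]),
    some (4, [18,7,6,27,1944,729,162]),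
    some (2, [9,276,1,246,729,516,81]),
    some (4, [18,20,3,27,243,1458,891]),
    some (4, [18,19,6,27,486,729,1620]),
    some (2, [15,357,1,327,729,678,81]),
    some (4, [21,23,3,27,324,1458,891]),
    some (4, [18,22,6,27,1215,729,1620]),
    some (2, [12,438,1,408,729,597,81]),
    some (4, [10,9,243,54,3,1539,729]),
    some (4, [24,25,6,27,567,729,1620]),
    some (0, [9,1,3,27,243,729,81]),
    some (4, [18,11,3,27,243,1458,1620]),
    some (4, [18,10,6,27,486,729,891]),
    some (0, [12,1,3,27,405,729,81]),
    some (4, [24,14,3,27,405,1458,1620]),
    some (4, [24,13,6,27,567,729,891]),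
    some (0, [15,1,3,27,324,729,81]),
    some (4, [19,9,243,54,3,810,729]),
    some (4, [21,16,6,27,648,729,891])]

def certTable1Row1 : List (Option (ℕ × List ℕ)) :=
  [some (5, [1,243,18,54,162,3,729]),
    some (4, [20,2,3,33,303,1539,162]),
    some (4, [19,1,6,30,543,810,162]),
    some (5, [1,243,261,54,162,84,729]),
    some (4, [23,5,3,33,1032,1539,162]),
    some (4, [2,11,543,60,6,81,1620]),
    some (5, [1,243,504,54,162,165,729]),
    some (4, [1,10,303,57,3,81,891]),
    some (4, [2,497,624,222,168,81,1620]),
    some (3, [9,1,3,27,243,729,81]),
    some (5, [19,6,13,30,1620,2163,1539]),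
    some (5, [20,3,17,33,891,1194,810]),
    some (3, [15,1,3,27,324,729,81]),
    some (5, [19,6,10,30,1620,543,1539]),
    some (5, [10,243,504,540,891,1407,729]),
    some (3, [12,1,3,27,405,729,81]),
    some (5, [11,3,16,30,1620,1896,891]),
    some (5, [10,243,18,540,891,516,729]),
    some (4, [553,295,276,246,597,1539,1620]),
    some (3, [15,17,357,675,648,1458,810]),
    some (3, [12,13,597,432,405,729,1539]),
    some (4, [10,19,276,246,516,1539,1620]),
    some (3, [9,11,276,513,486,1458,810]),
    some (3, [15,23,384,351,648,1458,1539]),
    some (4, [11,20,516,492,276,810,891]),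
    some (3, [9,14,1005,1971,1944,1458,810]),
    some (3, [9,10,516,270,243,729,1539])]

def certTable1Row2 : List (Option (ℕ × List ℕ)) :=
  [some (6, [1,486,9,54,81,6,729]),
    some (4, [20,2,3,30,276,1539,162]),
    some (4, [19,1,6,33,516,810,162]),
    some (6, [1,486,495,54,81,168,729]),
    some (4, [23,5,3,30,1005,1539,162]),
    some (4, [2,11,516,57,6,81,1620]),
    some (6, [1,486,252,54,81,87,729]),
    some (4, [1,10,276,60,3,81,891]),
    some (4, [25,7,6,33,1974,810,162]),
    some (3, [1,18,543,246,303,162,729]),
    some (6, [19,486,252,540,810,1113,729]),
    some (6, [20,6,22,30,1539,2082,810]),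
    some (3, [1,21,705,327,384,162,729]),
    some (6, [19,486,9,540,810,303,729]),
    some (6, [10,3,25,30,1539,1815,1620]),
    some (3, [1,24,624,408,465,162,729]),
    some (6, [11,6,23,33,810,1326,891]),
    some (6, [10,3,19,30,1539,276,1620]),
    some (4, [16,22,384,654,705,1539,1620]),
    some (3, [22,15,6,30,705,810,729]),
    some (3, [13,24,597,57,6,891,729]),
    some (4, [10,19,303,492,543,1539,1620]),
    some (3, [19,9,6,30,543,810,729]),
    some (3, [526,321,516,57,168,891,729]),
    some (4, [11,20,543,246,303,810,891]),
    some (3, [25,12,6,30,624,810,729]),
    some (3, [10,18,516,57,6,891,729])]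

def certTable1Row3 : List (Option (ℕ × List ℕ)) :=
  [none,
    none,
    none,
    none,
    none,
    none,
    none,
    none,
    none,
    none,
    none,
    none,
    none,
    none,
    none,
    none,
    none,
    none,
    none,
    none,
    none,
    none,
    none,
    none,
    none,
    none,
    none]

def certTable1Row4 : List (Option (ℕ × List ℕ)) :=
  [none,
    none,
    none,
    none,
    none,
    none,
    none,
    none,
    none,
    none,
    none,
    none,
    none,
    none,
    none,
    none,
    none,
    none,
    none,
    none,
    none,
    none,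
    none,
    none,
    none,
    none,
    none]

def certTable1Row5 : List (Option (ℕ × List ℕ)) :=
  [none,
    none,
    none,
    none,
    none,
    none,
    none,
    none,
    none,
    none,
    none,
    none,
    none,
    none,
    none,
    none,
    none,
    none,
    none,
    none,
    none,
    none,
    none,
    none,
    none,
    none,
    none]

def certTable1Row6 : List (Option (ℕ × List ℕ)) :=
  [none,
    none,
    none,
    none,
    none,
    none,
    none,
    none,
    none,
    none,
    none,
    none,
    none,
    none,
    none,
    none,
    none,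
    none,
    none,
    none,
    none,
    none,
    none,
    none,
    none,
    none,
    none]

def certTable1Row7 : List (Option (ℕ × List ℕ)) :=
  [none,
    none,
    none,
    none,
    none,
    none,
    none,
    none,
    none,
    none,
    none,
    none,
    none,
    none,
    none,
    none,
    none,
    none,
    none,
    none,
    none,
    none,
    none,
    none,
    none,
    none,
    none]

def certTable1Row8 : List (Option (ℕ × List ℕ)) :=
  [none,
    none,
    none,
    none,
    none,
    none,
    none,
    none,
    none,
    none,
    none,
    none,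
    none,
    none,
    none,
    none,
    none,
    none,
    none,
    none,
    none,
    none,
    none,
    none,
    none,
    none,
    none]

def certTable1Row9 : List (Option (ℕ × List ℕ)) :=
  [some (2, [9,6,1,30,729,543,81]),
    some (4, [18,20,516,270,243,1458,891]),
    some (4, [18,19,303,270,486,729,1620]),
    some (2, [198,6,1,111,729,705,81]),
    some (4, [18,23,1974,999,972,1458,891]),
    some (4, [11,9,486,540,303,810,1458]),
    some (2, [6,165,2,141,1458,132,504]),
    some (4, [10,9,243,540,516,1539,729]),
    some (4, [18,25,1032,999,1944,729,1620]),
    some (0, [9,1,516,270,243,729,81]),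
    some (4, [18,11,516,270,243,1458,1620]),
    some (4, [18,10,303,270,486,729,891]),
    some (0, [15,1,678,351,324,729,81]),
    some (4, [25,12,405,621,597,810,729]),
    some (4, [21,16,384,351,648,729,891]),
    some (0, [12,1,597,432,405,729,81]),
    some (4, [19,9,243,540,516,810,729]),
    some (4, [396,685,384,351,486,729,891]),
    some (1, [18,1,6,33,516,729,162]),
    some (4, [18,2,516,270,243,1458,162]),
    some (4, [18,1,303,270,486,729,162]),
    some (1, [24,1,6,33,597,729,162]),
    some (4, [1,15,324,702,678,81,729]),
    some (4, [2,9,486,540,303,81,1458]),
    some (1, [21,1,6,33,678,729,162]),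
    some (4, [1,9,243,540,516,81,729]),
    some (4, [21,1,384,351,648,729,162])]

def certTable1Row10 : List (Option (ℕ × List ℕ)) :=
  [some (5, [19,243,18,54,1620,3,729]),
    some (5, [10,243,504,297,891,1434,729]),
    some (3, [198,1,597,351,243,729,81]),
    some (5, [19,243,261,54,1620,813,729]),
    some (5, [10,243,18,297,891,543,729]),
    some (3, [9,7,1974,999,972,729,81]),
    some (5, [19,243,504,54,1620,1623,729]),
    some (5, [20,3,7,30,891,1167,162]),
    some (3, [9,1,516,270,243,729,81]),
    some (3, [9,19,3,27,243,729,810]),
    some (3, [12,26,438,594,567,1458,1539]),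
    some (4, [10,19,6,30,543,1539,1620]),
    some (3, [15,22,3,27,324,729,810]),
    some (3, [9,20,276,513,486,1458,1539]),
    some (4, [16,22,6,30,705,1539,1620]),
    some (3, [12,25,3,27,405,729,810]),
    some (3, [285,563,276,513,648,1458,1539]),
    some (4, [13,25,6,30,624,1539,1620]),
    some (4, [1,16,357,327,678,81,891]),
    some (4, [2,11,3,33,303,81,1620]),
    some (5, [2,3,26,33,162,465,1539]),
    some (4, [1,10,276,246,516,81,891]),
    some (4, [2,14,3,33,465,81,1620]),
    some (5, [1,243,504,540,162,678,729]),
    some (4, [1,553,276,246,597,81,891]),
    some (4, [2,17,3,33,384,81,1620]),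
    some (5, [2,3,20,33,162,303,1539])]

def certTable1Row11 : List (Option (ℕ × List ℕ)) :=
  [some (6, [10,486,9,54,1539,6,729]),
    some (3, [4,18,3,30,1734,162,729]),
    some (6, [11,6,4,30,810,1353,81]),
    some (6, [10,486,495,54,1539,897,729]),
    some (3, [1,18,3,30,276,162,729]),
    some (6, [19,486,252,297,810,1086,729]),
    some (6, [10,486,252,54,1539,1545,729]),
    some (3, [7,18,3,30,1005,162,729]),
    some (6, [11,6,1,30,810,543,81]),
    some (3, [10,18,543,246,303,891,729]),
    some (4, [11,20,3,30,276,810,891]),
    some (3, [322,525,303,57,84,810,729]),
    some (3, [16,21,705,327,384,891,729]),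
    some (4, [17,23,3,30,357,810,891]),
    some (3, [25,12,465,57,3,810,729]),
    some (3, [553,294,543,246,465,891,729]),
    some (4, [14,26,3,30,438,810,891]),
    some (3, [19,9,303,57,3,810,729]),
    some (4, [2,14,624,408,465,81,1620]),
    some (6, [1,486,252,540,81,384,729]),
    some (4, [1,10,6,33,516,81,891]),
    some (4, [2,287,543,246,384,81,1620]),
    some (6, [1,486,9,540,81,303,729]),
    some (4, [1,13,6,33,597,81,891]),
    some (4, [2,11,543,246,303,81,1620]),
    some (6, [2,6,14,33,81,597,1620]),
    some (4, [1,16,6,33,678,81,891])]

def certTable1Row12 : List (Option (ℕ × List ℕ)) :=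
  [none,
    none,
    none,
    none,
    none,
    none,
    none,
    none,
    none,
    none,
    none,
    none,
    none,
    none,
    none,
    none,
    none,
    none,
    none,
    none,
    none,
    none,
    none,
    none,
    none,
    none,
    none]

def certTable1Row13 : List (Option (ℕ × List ℕ)) :=
  [none,
    none,
    none,
    none,
    none,
    none,
    none,
    none,
    none,
    none,
    none,
    none,
    none,
    none,
    none,
    none,
    none,
    none,
    none,
    none,
    none,
    none,
    none,
    none,
    none,
    none,
    none]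

def certTable1Row14 : List (Option (ℕ × List ℕ)) :=
  [none,
    none,
    none,
    none,
    none,
    none,
    none,
    none,
    none,
    none,
    none,
    none,
    none,
    none,
    none,
    none,
    none,
    none,
    none,
    none,
    none,
    none,
    none,
    none,
    none,
    none,
    none]

def certTable1Row15 : List (Option (ℕ × List ℕ)) :=
  [none,
    none,
    none,
    none,
    none,
    none,
    none,
    none,
    none,
    none,
    none,
    none,
    none,
    none,
    none,
    none,
    none,
    none,
    none,
    none,
    none,
    none,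
    none,
    none,
    none,
    none,
    none]

def certTable1Row16 : List (Option (ℕ × List ℕ)) :=
  [none,
    none,
    none,
    none,
    none,
    none,
    none,
    none,
    none,
    none,
    none,
    none,
    none,
    none,
    none,
    none,
    none,
    none,
    none,
    none,
    none,
    none,
    none,
    none,
    none,
    none,
    none]

def certTable1Row17 : List (Option (ℕ × List ℕ)) :=
  [none,
    none,
    none,
    none,
    none,
    none,
    none,
    none,
    none,
    none,
    none,
    none,
    none,
    none,
    none,
    none,
    none,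
    none,
    none,
    none,
    none,
    none,
    none,
    none,
    none,
    none,
    none]

def certTable1Row18 : List (Option (ℕ × List ℕ)) :=
  [some (2, [9,3,2,33,1458,303,81]),
    some (4, [18,20,543,513,243,1458,891]),
    some (4, [18,19,276,513,486,729,1620]),
    some (2, [3,168,1,138,729,129,261]),
    some (4, [199,198,243,459,705,1539,729]),
    some (4, [18,562,276,513,1215,729,1620]),
    some (2, [6,87,1,219,729,201,504]),
    some (4, [10,9,243,297,543,1539,729]),
    some (4, [18,25,1005,1971,1944,729,1620]),
    some (0, [9,2,276,513,486,1458,81]),
    some (4, [262,495,243,297,624,810,729]),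
    some (4, [18,10,276,513,486,729,891]),
    some (0, [15,2,357,675,648,1458,81]),
    some (4, [25,12,405,459,624,810,729]),
    some (4, [294,553,276,513,567,729,891]),
    some (0, [12,2,438,594,567,1458,81]),
    some (4, [19,9,243,297,543,810,729]),
    some (4, [24,13,438,594,567,729,891]),
    some (1, [18,2,3,30,276,1458,162]),
    some (4, [1,495,243,297,624,81,729]),
    some (4, [18,1,276,513,486,729,162]),
    some (1, [24,2,3,30,438,1458,162]),
    some (4, [1,15,324,378,705,81,729]),
    some (4, [18,544,276,513,1215,729,162]),
    some (1, [21,2,3,30,357,1458,162]),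
    some (4, [1,9,243,297,543,81,729]),
    some (4, [21,1,357,675,648,729,162])]

def certTable1Row19 : List (Option (ℕ × List ℕ)) :=
  [some (5, [10,243,18,54,891,3,729]),
    some (3, [198,2,357,594,486,1458,81]),
    some (5, [11,3,8,33,1620,1923,81]),
    some (5, [10,243,261,54,891,1542,729]),
    some (3, [9,2,276,513,486,1458,81]),
    some (5, [19,6,5,33,1620,2136,162]),
    some (5, [10,243,504,54,891,894,729]),
    some (3, [9,5,1005,1971,1944,1458,81]),
    some (5, [19,6,2,33,1620,516,162]),
    some (3, [9,20,6,27,486,1458,1539]),
    some (4, [11,20,3,33,303,810,891]),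
    some (3, [15,22,678,351,324,729,810]),
    some (3, [15,23,6,27,648,1458,1539]),
    some (4, [17,23,3,33,384,810,891]),
    some (3, [525,322,516,270,405,729,810]),
    some (3, [12,26,6,27,567,1458,1539]),
    some (4, [14,26,3,33,465,810,891]),
    some (3, [9,19,516,270,243,729,810]),
    some (4, [2,527,516,492,438,81,1620]),
    some (5, [1,243,504,297,162,705,729]),
    some (4, [1,10,6,30,543,81,891]),
    some (4, [2,314,516,492,357,81,1620]),
    some (5, [1,243,18,297,162,543,729]),
    some (4, [1,13,6,30,624,81,891]),
    some (4, [2,11,516,492,276,81,1620]),
    some (5, [2,3,25,30,162,438,1620]),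
    some (4, [1,16,6,30,705,81,891])]

def certTable1Row20 : List (Option (ℕ × List ℕ)) :=
  [some (6, [19,486,9,54,810,6,729]),
    some (6, [10,3,8,33,1539,1842,81]),
    some (3, [1,495,465,138,84,81,729]),
    some (6, [19,486,495,54,810,1626,729]),
    some (6, [10,3,2,33,1539,303,81]),
    some (3, [7,9,1032,57,3,81,729]),
    some (6, [19,486,252,54,810,816,729]),
    some (6, [20,6,5,33,1539,2055,162]),
    some (3, [1,9,303,57,3,81,729]),
    some (3, [19,9,276,246,516,810,729]),
    some (3, [13,24,3,30,438,891,729]),
    some (4, [10,19,6,33,516,1539,1620]),
    some (3, [295,552,276,246,597,810,729]),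
    some (3, [10,18,3,30,276,891,729]),
    some (4, [16,22,6,33,678,1539,1620]),
    some (3, [25,12,438,408,597,810,729]),
    some (3, [16,21,3,30,357,891,729]),
    some (4, [13,25,6,33,597,1539,1620]),
    some (4, [1,16,384,654,705,81,891]),
    some (4, [2,11,3,30,276,81,1620]),
    some (6, [2,6,13,30,81,624,1539]),
    some (4, [1,10,303,492,543,81,891]),
    some (4, [2,14,3,30,438,81,1620]),
    some (6, [1,3,16,30,81,357,891]),
    some (4, [1,526,303,492,624,81,891]),
    some (4, [2,17,3,30,357,81,1620]),
    some (6, [1,3,10,30,81,276,891])]

def certTable1Row21 : List (Option (ℕ × List ℕ)) :=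
  [none,
    none,
    none,
    none,
    none,
    none,
    none,
    none,
    none,
    none,
    none,
    none,
    none,
    none,
    none,
    none,
    none,
    none,
    none,
    none,
    none,
    none,
    none,
    none,
    none,
    none,
    none]

def certTable1Row22 : List (Option (ℕ × List ℕ)) :=
  [none,
    none,
    none,
    none,
    none,
    none,
    none,
    none,
    none,
    none,
    none,
    none,
    none,
    none,
    none,
    none,
    none,
    none,
    none,
    none,
    none,
    none,
    none,
    none,
    none,
    none,
    none]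

def certTable1Row23 : List (Option (ℕ × List ℕ)) :=
  [none,
    none,
    none,
    none,
    none,
    none,
    none,
    none,
    none,
    none,
    none,
    none,
    none,
    none,
    none,
    none,
    none,
    none,
    none,
    none,
    none,
    none,
    none,
    none,
    none,
    none,
    none]

def certTable1Row24 : List (Option (ℕ × List ℕ)) :=
  [none,
    none,
    none,
    none,
    none,
    none,
    none,
    none,
    none,
    none,
    none,
    none,
    none,
    none,
    none,
    none,
    none,
    none,
    none,
    none,
    none,
    none,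
    none,
    none,
    none,
    none,
    none]

def certTable1Row25 : List (Option (ℕ × List ℕ)) :=
  [none,
    none,
    none,
    none,
    none,
    none,
    none,
    none,
    none,
    none,
    none,
    none,
    none,
    none,
    none,
    none,
    none,
    none,
    none,
    none,
    none,
    none,
    none,
    none,
    none,
    none,
    none]

def certTable1Row26 : List (Option (ℕ × List ℕ)) :=
  [none,
    none,
    none,
    none,
    none,
    none,
    none,
    none,
    none,
    none,
    none,
    none,
    none,
    none,
    none,
    none,
    none,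
    none,
    none,
    none,
    none,
    none,
    none,
    none,
    none,
    none,
    none]

def certTable1 : List (List (Option (ℕ × List ℕ))) :=
  [certTable1Row0,
   certTable1Row1,
   certTable1Row2,
   certTable1Row3,
   certTable1Row4,
   certTable1Row5,
   certTable1Row6,
   certTable1Row7,
   certTable1Row8,
   certTable1Row9,
   certTable1Row10,
   certTable1Row11,
   certTable1Row12,
   certTable1Row13,
   certTable1Row14,
   certTable1Row15,
   certTable1Row16,
   certTable1Row17,
   certTable1Row18,
   certTable1Row19,
   certTable1Row20,
   certTable1Row21,
   certTable1Row22,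
   certTable1Row23,
   certTable1Row24,
   certTable1Row25,
   certTable1Row26]

theorem checkLevi1 : checkLevi (1, 0, 0) certTable1 = true := by
  decide +kernel

end CfsgLib.SmallGroups.Omega7Three
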