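import Cfsg.Agent.Lib.SmallGroups.Omega7Three.Cert

/-!
Conjugacy certificates for the Levi factor (0, 0, 1).
-/

set_option autoImplicit false

namespace CfsgLib.SmallGroups.Omega7Three

def certTable2Row0 : List (Option (ℕ × List ℕ)) :=
  [some (1, [2,8,162,54,18,486,1701]),
    some (2, [1,126,3,90,243,198,729]),
    some (0, [1,3,9,27,81,243,729]),
    some (4, [2,3,18,27,162,243,1458]),
    some (4, [2,5,18,27,162,243,1944]),
    some (4, [2,4,18,27,162,243,1701]),
    some (4, [2,6,9,27,81,486,1458]),
    some (4, [2,8,9,27,81,486,1701]),
    some (4, [2,7,9,27,81,486,1944]),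
    some (1, [164,1,3,54,243,747,18]),
    some (2, [10,1584,3,1548,243,927,729]),
    some (0, [19,3,9,27,810,243,729]),
    some (4, [2,21,18,27,648,243,1458]),
    some (4, [2,23,18,27,648,243,1944]),
    some (4, [2,22,18,27,648,243,1701]),
    some (4, [2,24,9,27,567,486,1458]),
    some (4, [2,26,9,27,567,486,1701]),
    some (4, [2,25,9,27,567,486,1944]),
    some (1, [83,1,6,54,486,738,9]),
    some (2, [19,855,3,819,243,1656,729]),
    some (0, [10,3,9,27,1539,243,729]),
    some (4, [6,1,162,54,18,729,486]),
    some (4, [2,14,18,27,405,243,1944]),
    some (4, [8,1,162,54,18,1215,486]),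
    some (4, [2,15,9,27,324,486,1458]),
    some (4, [2,17,9,27,324,486,1701]),
    some (4, [2,16,9,27,324,486,1944])]

def certTable2Row1 : List (Option (ℕ × List ℕ)) :=
  [none,
    none,
    none,
    none,
    none,
    none,
    none,
    none,
    none,
    none,
    none,
    none,
    none,
    none,
    none,
    none,
    none,
    none,
    none,
    none,
    none,
    none,
    none,
    none,
    none,
    none,
    none]

def certTable2Row2 : List (Option (ℕ × List ℕ)) :=
  [none,
    none,
    none,
    none,
    none,
    none,
    none,
    none,
    none,
    none,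
    none,
    none,
    none,
    none,
    none,
    none,
    none,
    none,
    none,
    none,
    none,
    none,
    none,
    none,
    none,
    none,
    none]

def certTable2Row3 : List (Option (ℕ × List ℕ)) :=
  [some (2, [1,18,3,36,243,225,729]),
    some (0, [1,3,198,108,81,243,729]),
    some (1, [2,8,9,45,153,486,1701]),
    some (4, [2,5,153,108,162,243,1944]),
    some (4, [2,4,153,108,162,243,1701]),
    some (4, [2,3,153,108,162,243,1458]),
    some (4, [2,8,198,108,81,486,1701]),
    some (4, [2,7,198,108,81,486,1944]),
    some (4, [2,6,198,108,81,486,1458]),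
    some (2, [164,855,6,801,486,1467,1458]),
    some (0, [10,3,927,1566,1539,243,729]),
    some (1, [11,1,3,45,243,882,153]),
    some (4, [2,158,153,108,648,243,1944]),
    some (4, [2,157,153,108,648,243,1701]),
    some (4, [2,156,153,108,648,243,1458]),
    some (4, [2,161,198,108,567,486,1701]),
    some (4, [2,160,198,108,567,486,1944]),
    some (4, [2,159,198,108,567,486,1458]),
    some (2, [18,1046,1983,1008,243,1458,225]),
    some (0, [19,3,1656,837,810,243,729]),
    some (1, [20,1,6,45,486,927,198]),
    some (4, [2,203,153,108,405,243,1944]),
    some (4, [8,1,162,216,153,1215,486]),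
    some (4, [6,1,162,216,153,729,486]),
    some (4, [2,17,684,351,324,486,1701]),
    some (4, [2,16,684,351,324,486,1944]),
    some (4, [2,15,684,351,324,486,1458])]

def certTable2Row4 : List (Option (ℕ × List ℕ)) :=
  [none,
    none,
    none,
    none,
    none,
    none,
    none,
    none,
    none,
    none,
    none,
    none,
    none,
    none,
    none,
    none,
    none,
    none,
    none,
    none,
    none,
    none,
    none,
    none,
    none,
    none,
    none]

def certTable2Row5 : List (Option (ℕ × List ℕ)) :=
  [none,
    none,
    none,
    none,
    none,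
    none,
    none,
    none,
    none,
    none,
    none,
    none,
    none,
    none,
    none,
    none,
    none,
    none,
    none,
    none,
    none,
    none,
    none,
    none,
    none,
    none,
    none]

def certTable2Row6 : List (Option (ℕ × List ℕ)) :=
  [some (2, [1,9,6,45,486,153,729]),
    some (0, [1,3,225,189,81,243,729]),
    some (1, [2,8,9,36,126,486,1701]),
    some (4, [2,5,126,189,162,243,1944]),
    some (4, [2,4,126,189,162,243,1701]),
    some (4, [2,3,126,189,162,243,1458]),
    some (4, [2,8,225,189,81,486,1701]),
    some (4, [2,7,225,189,81,486,1944]),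
    some (4, [2,6,225,189,81,486,1458]),
    some (2, [9,794,6,774,486,1458,153]),
    some (0, [20,6,9,45,1611,486,1458]),
    some (1, [11,1,3,36,243,855,126]),
    some (4, [2,23,369,675,648,243,1944]),
    some (4, [2,22,369,675,648,243,1701]),
    some (4, [2,21,369,675,648,243,1458]),
    some (4, [2,134,225,189,567,486,1701]),
    some (4, [2,133,225,189,567,486,1944]),
    some (4, [2,132,225,189,567,486,1458]),
    some (2, [18,2008,1023,1989,486,729,198]),
    some (0, [11,6,9,45,882,486,1458]),
    some (1, [20,1,6,36,486,954,225]),
    some (4, [2,230,126,189,405,243,1944]),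
    some (4, [8,1,162,135,126,1215,486]),
    some (4, [6,1,162,135,126,729,486]),
    some (4, [2,17,711,675,324,486,1701]),
    some (4, [2,16,711,675,324,486,1944]),
    some (4, [2,15,711,675,324,486,1458])]

def certTable2Row7 : List (Option (ℕ × List ℕ)) :=
  [none,
    none,
    none,
    none,
    none,
    none,
    none,
    none,
    none,
    none,
    none,
    none,
    none,
    none,
    none,
    none,
    none,
    none,
    none,
    none,
    none,
    none,
    none,
    none,
    none,
    none,
    none]

def certTable2Row8 : List (Option (ℕ × List ℕ)) :=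
  [none,
    none,
    none,
    none,
    none,
    none,
    none,
    none,
    none,
    none,
    none,
    none,
    none,
    none,
    none,
    none,
    none,
    none,
    none,
    none,
    none,
    none,
    none,
    none,
    none,
    none,
    none]

def certTable2Row9 : List (Option (ℕ × List ℕ)) :=
  [some (5, [3,81,2,54,1458,9,243]),
    some (3, [1,3,9,27,81,243,729]),
    some (4, [205,206,198,180,369,972,1701]),
    some (4, [5,3,18,36,225,972,1458]),
    some (5, [8,9,25,45,1701,1854,972]),
    some (3, [1,13,441,594,567,243,1215]),
    some (4, [8,6,9,45,153,1215,1458]),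
    some (5, [5,18,13,36,1944,2169,1215]),
    some (3, [1,158,711,432,324,243,972]),
    some (5, [3,81,164,54,1458,1467,243]),
    some (3, [10,3,9,27,1539,243,729]),
    some (4, [7,8,198,180,126,972,1701]),
    some (4, [6,169,954,1530,1476,729,1944]),
    some (5, [4,18,7,45,1701,198,1944]),
    some (3, [1,4,198,108,81,243,1215]),
    some (4, [26,24,9,45,639,1215,1458]),
    some (5, [7,9,22,36,1944,2070,1701]),
    some (3, [1,16,369,675,648,486,972]),
    some (5, [6,162,83,54,1458,1476,486]),
    some (3, [19,3,9,27,810,243,729]),
    some (4, [7,161,198,180,1098,972,1701]),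
    some (4, [6,7,225,72,18,729,1944]),
    some (5, [4,18,16,45,1701,1899,1944]),
    some (3, [1,22,684,351,324,243,1215]),
    some (4, [17,15,9,45,396,1215,1458]),
    some (5, [5,18,4,36,1944,225,1215]),
    some (3, [1,5,225,189,81,243,972])]

def certTable2Row10 : List (Option (ℕ × List ℕ)) :=
  [none,
    none,
    none,
    none,
    none,
    none,
    none,
    none,
    none,
    none,
    none,
    none,
    none,
    none,
    none,
    none,
    none,
    none,
    none,
    none,
    none,
    none,
    none,
    none,
    none,
    none,
    none]

def certTable2Row11 : List (Option (ℕ × List ℕ)) :=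
  [none,
    none,
    none,
    none,
    none,
    none,
    none,
    none,
    none,
    none,
    none,
    none,
    none,
    none,
    none,
    none,
    none,
    none,
    none,
    none,
    none,
    none,
    none,
    none,
    none,
    none,
    none]

def certTable2Row12 : List (Option (ℕ × List ℕ)) :=
  [some (5, [5,81,2,54,1944,9,243]),
    some (3, [1,5,9,27,81,243,972]),
    some (4, [206,204,198,180,369,1215,1458]),
    some (3, [1,12,441,594,567,243,729]),
    some (4, [4,5,18,36,225,1215,1944]),
    some (5, [6,162,83,216,1458,1611,486]),
    some (5, [4,18,12,36,1701,1926,729]),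
    some (3, [1,157,711,432,324,243,1215]),
    some (4, [6,7,9,45,153,729,1944]),
    some (5, [5,81,164,54,1944,1953,243]),
    some (3, [10,23,9,27,1539,243,972]),
    some (4, [8,6,198,180,126,1215,1458]),
    some (3, [1,3,198,108,81,243,729]),
    some (4, [22,23,18,36,711,1215,1944]),
    some (5, [3,18,8,45,1458,198,1701]),
    some (5, [8,9,21,36,1701,1827,1458]),
    some (3, [1,17,369,675,648,486,1215]),
    some (4, [6,25,9,45,882,729,1944]),
    some (5, [7,162,83,54,1944,1962,486]),
    some (3, [19,14,9,27,810,243,972]),
    some (4, [3,4,126,90,198,729,1701]),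
    some (3, [1,21,684,351,324,243,729]),
    some (4, [7,8,225,72,18,972,1701]),
    some (5, [3,18,17,45,1458,1656,1701]),
    some (5, [18,8,3,36,1701,1458,225]),
    some (3, [1,4,225,189,81,243,1215]),
    some (4, [15,16,9,45,396,729,1944])]

def certTable2Row13 : List (Option (ℕ × List ℕ)) :=
  [none,
    none,
    none,
    none,
    none,
    none,
    none,
    none,
    none,
    none,
    none,
    none,
    none,
    none,
    none,
    none,
    none,
    none,
    none,
    none,
    none,
    none,
    none,
    none,
    none,
    none,
    none]

def certTable2Row14 : List (Option (ℕ × List ℕ)) :=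
  [none,
    none,
    none,
    none,
    none,
    none,
    none,
    none,
    none,
    none,
    none,
    none,
    none,
    none,
    none,
    none,
    none,
    none,
    none,
    none,
    none,
    none,
    none,
    none,
    none,
    none,
    none]

def certTable2Row15 : List (Option (ℕ × List ℕ)) :=
  [some (5, [4,81,2,54,1701,9,243]),
    some (3, [1,4,9,27,81,243,1215]),
    some (4, [204,205,198,180,369,729,1944]),
    some (5, [7,9,24,45,1944,2097,729]),
    some (3, [1,14,441,594,567,243,972]),
    some (4, [3,4,18,36,225,729,1701]),
    some (3, [1,156,711,432,324,243,729]),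
    some (4, [7,8,9,45,153,972,1701]),
    some (5, [3,81,164,135,1458,1683,243]),
    some (5, [4,81,164,54,1701,1710,243]),
    some (3, [10,22,9,27,2025,243,1215]),
    some (4, [6,7,198,180,126,729,1944]),
    some (5, [7,9,6,45,1944,153,729]),
    some (3, [1,5,198,108,81,243,972]),
    some (4, [21,22,18,36,711,729,1701]),
    some (3, [1,15,369,675,648,486,729]),
    some (4, [7,26,9,45,1125,972,1701]),
    some (5, [6,9,23,36,1458,1584,1944]),
    some (5, [8,162,83,54,1701,1719,486]),
    some (3, [19,13,9,27,1053,243,1215]),
    some (4, [6,160,198,180,855,729,1944]),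
    some (5, [7,9,15,45,1944,1125,729]),
    some (3, [1,23,684,351,324,243,972]),
    some (4, [8,6,225,72,18,1215,1458]),
    some (3, [1,3,225,189,81,243,729]),
    some (4, [16,17,9,45,396,972,1701]),
    some (5, [3,81,2,135,1458,225,243])]

def certTable2Row16 : List (Option (ℕ × List ℕ)) :=
  [none,
    none,
    none,
    none,
    none,
    none,
    none,
    none,
    none,
    none,
    none,
    none,
    none,
    none,
    none,
    none,
    none,
    none,
    none,
    none,
    none,
    none,
    none,
    none,
    none,
    none,
    none]

def certTable2Row17 : List (Option (ℕ × List ℕ)) :=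
  [none,
    none,
    none,
    none,
    none,
    none,
    none,
    none,
    none,
    none,
    none,
    none,
    none,
    none,
    none,
    none,
    none,
    none,
    none,
    none,
    none,
    none,
    none,
    none,
    none,
    none,
    none]

def certTable2Row18 : List (Option (ℕ × List ℕ)) :=
  [some (6, [6,81,1,54,729,9,486]),
    some (3, [3,2,225,90,153,1458,243]),
    some (4, [232,233,225,90,396,972,1701]),
    some (4, [5,3,18,45,198,972,1458]),
    some (6, [8,18,14,36,1215,1440,972]),
    some (3, [26,1,9,45,639,1215,486]),
    some (4, [8,6,9,36,126,1215,1458]),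
    some (6, [5,9,26,45,972,1125,1215]),
    some (3, [14,2,9,36,612,1944,243]),
    some (6, [3,162,82,54,729,747,243]),
    some (3, [3,20,954,1548,1611,1458,243]),
    some (4, [7,8,225,90,153,972,1701]),
    some (4, [204,205,198,63,261,729,1944]),
    some (6, [8,18,5,36,1215,225,972]),
    some (3, [8,1,9,45,153,1215,486]),
    some (4, [26,24,9,36,612,1215,1458]),
    some (6, [7,126,228,90,972,1170,729]),
    some (3, [23,2,9,36,369,1944,243]),
    some (6, [6,81,163,54,729,738,486]),
    some (3, [129,2,225,90,396,1458,243]),
    some (4, [7,134,225,90,1125,972,1701]),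
    some (4, [6,7,198,63,18,729,1944]),
    some (6, [4,198,159,180,1215,1341,729]),
    some (3, [17,19,9,45,882,1215,486]),
    some (4, [17,15,9,36,369,1215,1458]),
    some (6, [7,126,3,90,972,198,729]),
    some (3, [5,2,9,36,126,1944,243])]

def certTable2Row19 : List (Option (ℕ × List ℕ)) :=
  [none,
    none,
    none,
    none,
    none,
    none,
    none,
    none,
    none,
    none,
    none,
    none,
    none,
    none,
    none,
    none,
    none,
    none,
    none,
    none,
    none,
    none,
    none,
    none,
    none,
    none,
    none]

def certTable2Row20 : List (Option (ℕ × List ℕ)) :=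
  [none,
    none,
    none,
    none,
    none,
    none,
    none,
    none,
    none,
    none,
    none,
    none,
    none,
    none,
    none,
    none,
    none,
    none,
    none,
    none,
    none,
    none,
    none,
    none,
    none,
    none,
    none]

def certTable2Row21 : List (Option (ℕ × List ℕ)) :=
  [some (6, [8,81,1,54,1215,9,486]),
    some (3, [4,2,225,90,153,1701,243]),
    some (4, [6,16,954,1548,1611,729,1944]),
    some (6, [7,18,12,36,972,1197,729]),
    some (3, [25,1,9,45,639,972,486]),
    some (4, [3,4,18,45,198,729,1701]),
    some (3, [6,82,1683,801,747,729,486]),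
    some (4, [7,8,9,36,126,972,1701]),
    some (6, [3,9,25,45,729,882,972]),
    some (6, [4,225,132,72,1215,1233,729]),
    some (3, [229,128,225,90,1611,1701,243]),
    some (4, [6,7,225,90,153,729,1944]),
    some (6, [7,18,3,36,972,225,729]),
    some (3, [7,1,9,45,153,972,486]),
    some (4, [21,22,18,45,684,729,1701]),
    some (3, [21,2,9,36,369,1458,243]),
    some (4, [7,26,9,36,1098,972,1701]),
    some (6, [6,18,16,45,729,927,1944]),
    some (6, [8,81,163,54,1215,1224,486]),
    some (3, [130,2,225,90,396,1701,243]),
    some (4, [6,133,225,90,882,729,1944]),
    some (6, [7,18,21,36,972,2169,729]),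
    some (3, [16,1,9,45,396,972,486]),
    some (4, [8,6,198,63,18,1215,1458]),
    some (3, [3,2,9,36,126,1458,243]),
    some (4, [16,17,9,36,369,972,1701]),
    some (6, [6,18,7,45,729,198,1944])]

def certTable2Row22 : List (Option (ℕ × List ℕ)) :=
  [none,
    none,
    none,
    none,
    none,
    none,
    none,
    none,
    none,
    none,
    none,
    none,
    none,
    none,
    none,
    none,
    none,
    none,
    none,
    none,
    none,
    none,
    none,
    none,
    none,
    none,
    none]

def certTable2Row23 : List (Option (ℕ × List ℕ)) :=
  [none,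
    none,
    none,
    none,
    none,
    none,
    none,
    none,
    none,
    none,
    none,
    none,
    none,
    none,
    none,
    none,
    none,
    none,
    none,
    none,
    none,
    none,
    none,
    none,
    none,
    none,
    none]

def certTable2Row24 : List (Option (ℕ × List ℕ)) :=
  [some (6, [7,153,3,63,972,9,729]),
    some (3, [5,2,225,90,153,1944,243]),
    some (4, [233,231,225,90,396,1215,1458]),
    some (3, [156,2,198,63,261,1458,243]),
    some (4, [4,5,18,45,198,1215,1944]),
    some (6, [6,18,13,36,729,954,1215]),
    some (6, [4,9,24,45,1215,1368,729]),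
    some (3, [13,20,9,36,1584,1701,243]),
    some (4, [6,7,9,36,126,729,1944]),
    some (6, [5,162,82,54,972,990,243]),
    some (3, [5,20,1197,2034,2097,1944,243]),
    some (4, [8,6,225,90,153,1215,1458]),
    some (3, [6,1,9,45,153,729,486]),
    some (4, [205,206,198,63,261,972,1701]),
    some (6, [6,18,4,36,729,225,1215]),
    some (6, [13,9,15,45,1215,1125,729]),
    some (3, [22,2,9,36,369,1701,243]),
    some (4, [6,25,9,36,855,729,1944]),
    some (6, [7,153,201,63,972,981,729]),
    some (3, [5,11,2169,1062,1125,1944,243]),
    some (4, [3,4,153,180,225,729,1701]),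
    some (3, [15,1,9,45,396,729,486]),
    some (4, [7,8,198,63,18,972,1701]),
    some (6, [3,15,22,36,729,855,369]),
    some (6, [18,4,6,45,1215,729,198]),
    some (3, [4,2,9,36,126,1701,243]),
    some (4, [15,16,9,36,369,729,1944])]

def certTable2Row25 : List (Option (ℕ × List ℕ)) :=
  [none,
    none,
    none,
    none,
    none,
    none,
    none,
    none,
    none,
    none,
    none,
    none,
    none,
    none,
    none,
    none,
    none,
    none,
    none,
    none,
    none,
    none,
    none,
    none,
    none,
    none,
    none]

def certTable2Row26 : List (Option (ℕ × List ℕ)) :=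
  [none,
    none,
    none,
    none,
    none,
    none,
    none,
    none,
    none,
    none,
    none,
    none,
    none,
    none,
    none,
    none,
    none,
    none,
    none,
    none,
    none,
    none,
    none,
    none,
    none,
    none,
    none]

def certTable2 : List (List (Option (ℕ × List ℕ))) :=
  [certTable2Row0,
   certTable2Row1,
   certTable2Row2,
   certTable2Row3,
   certTable2Row4,
   certTable2Row5,
   certTable2Row6,
   certTable2Row7,
   certTable2Row8,
   certTable2Row9,
   certTable2Row10,
   certTable2Row11,
   certTable2Row12,
   certTable2Row13,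
   certTable2Row14,
   certTable2Row15,
   certTable2Row16,
   certTable2Row17,
   certTable2Row18,
   certTable2Row19,
   certTable2Row20,
   certTable2Row21,
   certTable2Row22,
   certTable2Row23,
   certTable2Row24,
   certTable2Row25,
   certTable2Row26]

theorem checkLevi2 : checkLevi (0, 0, 1) certTable2 = true := by
  decide +kernel

end CfsgLib.SmallGroups.Omega7Three
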