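import Cfsg.Agent.Lib.SmallGroups.Omega7Three.Cert

/-!
Conjugacy certificates for the Levi factor (0, 1, 0).
-/

set_option autoImplicit false

namespace CfsgLib.SmallGroups.Omega7Three

def certTable3Row0 : List (Option (ℕ × List ℕ)) :=
  [some (1, [3,2,162,54,18,1458,243]),
    some (4, [3,2,9,27,81,1458,243]),
    some (4, [3,1,18,27,162,729,243]),
    some (2, [6,126,1,90,729,198,486]),
    some (4, [3,5,9,27,81,1458,972]),
    some (4, [3,4,18,27,162,729,1701]),
    some (0, [6,1,9,27,81,729,486]),
    some (4, [3,8,9,27,81,1458,1701]),
    some (4, [3,7,18,27,162,729,972]),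
    some (1, [165,89,162,54,504,1458,1701]),
    some (4, [3,20,9,27,1539,1458,243]),
    some (4, [2,168,162,54,261,486,1458]),
    some (2, [15,369,1,333,729,684,486]),
    some (4, [3,23,9,27,1539,1458,972]),
    some (4, [21,22,18,27,648,729,1701]),
    some (0, [24,1,9,27,567,729,486]),
    some (4, [12,26,9,27,567,1458,1701]),
    some (4, [23,15,648,54,18,1944,1458]),
    some (1, [84,2,162,54,261,1458,243]),
    some (4, [3,11,9,27,810,1458,243]),
    some (4, [2,6,162,54,18,486,1458]),
    some (2, [12,639,26,423,1458,468,1701]),
    some (4, [3,14,9,27,810,1458,972]),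
    some (4, [8,6,162,54,18,1215,1458]),
    some (0, [15,1,9,27,324,729,486]),
    some (4, [21,17,9,27,324,1458,1701]),
    some (4, [5,6,162,54,18,1944,1458])]

def certTable3Row1 : List (Option (ℕ × List ℕ)) :=
  [none,
    none,
    none,
    none,
    none,
    none,
    none,
    none,
    none,
    none,
    none,
    none,
    none,
    none,
    none,
    none,
    none,
    none,
    none,
    none,
    none,
    none,
    none,
    none,
    none,
    none,
    none]

def certTable3Row2 : List (Option (ℕ × List ℕ)) :=
  [none,
    none,
    none,
    none,
    none,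
    none,
    none,
    none,
    none,
    none,
    none,
    none,
    none,
    none,
    none,
    none,
    none,
    none,
    none,
    none,
    none,
    none,
    none,
    none,
    none,
    none,
    none]

def certTable3Row3 : List (Option (ℕ × List ℕ)) :=
  [some (6, [1,162,6,54,486,18,729]),
    some (4, [5,2,9,36,126,1944,243]),
    some (4, [2,161,198,63,504,486,1701]),
    some (3, [1,3,225,90,153,243,729]),
    some (6, [4,162,87,216,1215,1368,729]),
    some (6, [5,18,13,36,1944,2169,1215]),
    some (4, [17,23,711,333,396,1215,972]),
    some (3, [13,21,9,36,1098,1701,729]),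
    some (3, [16,21,684,63,18,972,729]),
    some (6, [1,162,87,54,486,504,729]),
    some (4, [5,20,9,36,2070,1944,243]),
    some (4, [2,206,198,63,261,486,1701]),
    some (3, [1,21,711,333,396,243,729]),
    some (6, [8,18,14,45,1215,1413,972]),
    some (6, [5,18,4,36,1944,225,1215]),
    some (4, [8,5,225,90,153,1215,972]),
    some (3, [22,21,9,36,369,1701,729]),
    some (3, [7,3,198,63,18,972,729]),
    some (6, [1,162,168,54,486,261,729]),
    some (4, [5,11,9,36,1098,1944,243]),
    some (4, [2,8,198,63,18,486,1701]),
    some (3, [1,12,468,576,639,243,729]),
    some (6, [8,18,5,45,1215,198,972]),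
    some (6, [7,9,22,36,1944,2070,1701]),
    some (4, [233,131,225,90,396,1215,972]),
    some (3, [4,3,9,36,126,1701,729]),
    some (3, [205,156,198,63,261,972,729])]

def certTable3Row4 : List (Option (ℕ × List ℕ)) :=
  [none,
    none,
    none,
    none,
    none,
    none,
    none,
    none,
    none,
    none,
    none,
    none,
    none,
    none,
    none,
    none,
    none,
    none,
    none,
    none,
    none,
    none,
    none,
    none,
    none,
    none,
    none]

def certTable3Row5 : List (Option (ℕ × List ℕ)) :=
  [none,
    none,
    none,
    none,
    none,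
    none,
    none,
    none,
    none,
    none,
    none,
    none,
    none,
    none,
    none,
    none,
    none,
    none,
    none,
    none,
    none,
    none,
    none,
    none,
    none,
    none,
    none]

def certTable3Row6 : List (Option (ℕ × List ℕ)) :=
  [some (5, [1,81,3,54,243,9,729]),
    some (4, [5,2,9,45,153,1944,243]),
    some (4, [2,134,225,72,504,486,1701]),
    some (3, [6,1,9,27,81,729,486]),
    some (5, [4,18,16,36,1701,1926,1944]),
    some (5, [5,9,26,45,972,1125,1215]),
    some (4, [17,23,684,666,369,1215,972]),
    some (3, [231,130,225,189,324,729,1215]),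
    some (3, [15,16,684,351,324,729,1944]),
    some (5, [1,81,165,54,243,252,729]),
    some (4, [5,20,9,45,2097,1944,243]),
    some (4, [2,170,711,315,261,486,1701]),
    some (3, [15,1,9,27,324,729,486]),
    some (5, [8,9,25,36,1701,1827,972]),
    some (5, [7,81,3,216,972,198,729]),
    some (4, [8,5,198,180,126,1215,972]),
    some (3, [15,22,711,675,324,729,1215]),
    some (3, [6,7,198,108,81,729,1944]),
    some (5, [1,81,84,54,243,495,729]),
    some (4, [5,11,9,45,1125,1944,243]),
    some (4, [2,8,225,72,18,486,1701]),
    some (3, [24,1,9,27,567,729,486]),
    some (5, [4,18,7,36,1701,225,1944]),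
    some (5, [7,81,165,216,972,1170,729]),
    some (4, [206,158,198,180,369,1215,972]),
    some (3, [6,4,225,189,81,729,1215]),
    some (3, [6,25,1656,837,810,729,1944])]

def certTable3Row7 : List (Option (ℕ × List ℕ)) :=
  [none,
    none,
    none,
    none,
    none,
    none,
    none,
    none,
    none,
    none,
    none,
    none,
    none,
    none,
    none,
    none,
    none,
    none,
    none,
    none,
    none,
    none,
    none,
    none,
    none,
    none,
    none]

def certTable3Row8 : List (Option (ℕ × List ℕ)) :=
  [none,
    none,
    none,
    none,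
    none,
    none,
    none,
    none,
    none,
    none,
    none,
    none,
    none,
    none,
    none,
    none,
    none,
    none,
    none,
    none,
    none,
    none,
    none,
    none,
    none,
    none,
    none]

def certTable3Row9 : List (Option (ℕ × List ℕ)) :=
  [some (2, [6,18,1,36,729,225,486]),
    some (4, [3,5,198,108,81,1458,972]),
    some (4, [3,4,153,108,162,729,1701]),
    some (0, [6,1,198,108,81,729,486]),
    some (4, [3,8,198,108,81,1458,1701]),
    some (4, [3,7,153,108,162,729,972]),
    some (1, [3,2,9,45,153,1458,243]),
    some (4, [3,2,198,108,81,1458,243]),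
    some (4, [3,1,153,108,162,729,243]),
    some (2, [9,321,1,279,729,486,126]),
    some (4, [3,158,198,108,1539,1458,972]),
    some (4, [156,157,153,108,648,729,1701]),
    some (0, [15,1,684,351,324,729,486]),
    some (4, [201,161,198,108,567,1458,1701]),
    some (4, [21,16,396,351,648,729,972]),
    some (1, [12,26,9,45,639,1458,1701]),
    some (4, [3,155,198,108,1539,1458,243]),
    some (4, [2,15,648,702,396,486,1458]),
    some (2, [18,561,1,522,729,243,225]),
    some (4, [3,14,1656,837,810,1458,972]),
    some (4, [8,6,162,216,153,1215,1458]),
    some (0, [204,1,198,108,324,729,486]),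
    some (4, [12,26,441,594,567,1458,1701]),
    some (4, [5,6,162,216,153,1944,1458]),
    some (1, [21,2,9,45,396,1458,243]),
    some (4, [21,2,684,351,324,1458,243]),
    some (4, [2,6,162,216,153,486,1458])]

def certTable3Row10 : List (Option (ℕ × List ℕ)) :=
  [none,
    none,
    none,
    none,
    none,
    none,
    none,
    none,
    none,
    none,
    none,
    none,
    none,
    none,
    none,
    none,
    none,
    none,
    none,
    none,
    none,
    none,
    none,
    none,
    none,
    none,
    none]

def certTable3Row11 : List (Option (ℕ × List ℕ)) :=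
  [none,
    none,
    none,
    none,
    none,
    none,
    none,
    none,
    none,
    none,
    none,
    none,
    none,
    none,
    none,
    none,
    none,
    none,
    none,
    none,
    none,
    none,
    none,
    none,
    none,
    none,
    none]

def certTable3Row12 : List (Option (ℕ × List ℕ)) :=
  [some (6, [7,162,6,54,1944,18,729]),
    some (3, [2,87,468,558,504,486,1458]),
    some (6, [8,18,10,36,1215,1440,486]),
    some (3, [7,3,225,90,153,972,729]),
    some (4, [8,5,9,36,126,1215,972]),
    some (3, [157,156,198,63,261,1701,729]),
    some (4, [2,17,711,333,396,486,1701]),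
    some (6, [1,162,87,216,486,639,729]),
    some (4, [1,7,18,45,198,486,972]),
    some (6, [7,162,87,54,1944,1962,729]),
    some (3, [2,168,711,315,261,486,1458]),
    some (6, [8,18,1,36,1215,225,486]),
    some (3, [232,129,225,90,396,972,729]),
    some (4, [17,23,9,36,369,1215,972]),
    some (3, [4,3,198,63,18,1701,729]),
    some (4, [2,8,225,90,153,486,1701]),
    some (6, [2,18,17,45,486,684,1701]),
    some (4, [1,25,18,45,441,486,972]),
    some (6, [7,162,168,54,1944,990,729]),
    some (3, [1,3,9,36,126,243,729]),
    some (6, [4,162,87,135,1215,1341,729]),
    some (3, [133,228,225,90,639,972,729]),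
    some (4, [26,14,9,36,612,1215,972]),
    some (3, [22,21,684,63,18,1701,729]),
    some (4, [2,134,225,90,639,486,1701]),
    some (6, [2,18,8,45,486,198,1701]),
    some (4, [1,16,18,45,684,486,972])]

def certTable3Row13 : List (Option (ℕ × List ℕ)) :=
  [none,
    none,
    none,
    none,
    none,
    none,
    none,
    none,
    none,
    none,
    none,
    none,
    none,
    none,
    none,
    none,
    none,
    none,
    none,
    none,
    none,
    none,
    none,
    none,
    none,
    none,
    none]

def certTable3Row14 : List (Option (ℕ × List ℕ)) :=
  [none,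
    none,
    none,
    none,
    none,
    none,
    none,
    none,
    none,
    none,
    none,
    none,
    none,
    none,
    none,
    none,
    none,
    none,
    none,
    none,
    none,
    none,
    none,
    none,
    none,
    none,
    none]

def certTable3Row15 : List (Option (ℕ × List ℕ)) :=
  [some (5, [81,8,3,54,1701,1458,9]),
    some (5, [7,81,165,135,972,1197,729]),
    some (3, [6,10,927,1566,1539,729,486]),
    some (3, [6,4,9,27,81,729,1215]),
    some (3, [15,23,369,675,648,1458,1944]),
    some (4, [7,4,18,36,225,1944,1701]),
    some (4, [23,2,684,666,369,1944,243]),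
    some (4, [2,8,9,45,153,486,1701]),
    some (5, [2,9,23,45,243,396,1944]),
    some (5, [4,81,165,54,1701,1710,729]),
    some (5, [5,9,19,36,972,1098,243]),
    some (3, [6,1,198,108,81,729,486]),
    some (3, [15,22,9,27,324,729,1215]),
    some (3, [132,230,126,189,405,1458,1944]),
    some (4, [170,86,711,315,261,1215,972]),
    some (4, [5,2,198,180,126,1944,243]),
    some (4, [2,26,9,45,639,486,1701]),
    some (5, [1,81,3,216,243,198,729]),
    some (5, [8,162,84,54,1701,1719,1458]),
    some (5, [7,81,3,135,972,225,729]),
    some (3, [6,19,1656,837,810,729,486]),
    some (3, [24,13,9,27,567,729,1215]),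
    some (3, [6,5,126,189,162,1458,1944]),
    some (4, [8,5,225,72,18,1215,972]),
    some (4, [1,7,126,90,198,486,972]),
    some (4, [2,17,9,45,396,486,1701]),
    some (5, [1,81,165,216,243,441,729])]

def certTable3Row16 : List (Option (ℕ × List ℕ)) :=
  [none,
    none,
    none,
    none,
    none,
    none,
    none,
    none,
    none,
    none,
    none,
    none,
    none,
    none,
    none,
    none,
    none,
    none,
    none,
    none,
    none,
    none,
    none,
    none,
    none,
    none,
    none]

def certTable3Row17 : List (Option (ℕ × List ℕ)) :=
  [none,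
    none,
    none,
    none,
    none,
    none,
    none,
    none,
    none,
    none,
    none,
    none,
    none,
    none,
    none,
    none,
    none,
    none,
    none,
    none,
    none,
    none,
    none,
    none,
    none,
    none,
    none]

def certTable3Row18 : List (Option (ℕ × List ℕ)) :=
  [some (2, [3,18,2,45,1458,198,243]),
    some (4, [3,5,225,189,81,1458,972]),
    some (4, [3,4,126,189,162,729,1701]),
    some (0, [3,2,9,45,153,1458,243]),
    some (4, [3,8,225,189,81,1458,1701]),
    some (4, [3,7,126,189,162,729,972]),
    some (1, [3,2,9,36,126,1458,243]),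
    some (4, [3,2,225,189,81,1458,243]),
    some (4, [3,1,126,189,162,729,243]),
    some (2, [9,552,2,531,1458,243,153]),
    some (4, [7,6,81,135,225,1944,729]),
    some (4, [3,22,855,1647,1620,729,1701]),
    some (0, [21,2,9,45,396,1458,243]),
    some (4, [4,6,81,135,225,1215,729]),
    some (4, [21,16,369,675,648,729,972]),
    some (1, [12,26,9,36,612,1458,1701]),
    some (4, [1,6,81,135,225,486,729]),
    some (4, [2,15,648,378,369,486,1458]),
    some (2, [18,312,2,288,1458,486,198]),
    some (4, [3,14,1683,1647,810,1458,972]),
    some (4, [8,6,162,135,126,1215,1458]),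
    some (0, [12,26,9,45,639,1458,1701]),
    some (4, [201,161,468,675,567,1458,1701]),
    some (4, [5,6,162,135,126,1944,1458]),
    some (1, [21,2,9,36,369,1458,243]),
    some (4, [21,2,711,675,324,1458,243]),
    some (4, [2,6,162,135,126,486,1458])]

def certTable3Row19 : List (Option (ℕ × List ℕ)) :=
  [none,
    none,
    none,
    none,
    none,
    none,
    none,
    none,
    none,
    none,
    none,
    none,
    none,
    none,
    none,
    none,
    none,
    none,
    none,
    none,
    none,
    none,
    none,
    none,
    none,
    none,
    none]

def certTable3Row20 : List (Option (ℕ × List ℕ)) :=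
  [none,
    none,
    none,
    none,
    none,
    none,
    none,
    none,
    none,
    none,
    none,
    none,
    none,
    none,
    none,
    none,
    none,
    none,
    none,
    none,
    none,
    none,
    none,
    none,
    none,
    none,
    none]

def certTable3Row21 : List (Option (ℕ × List ℕ)) :=
  [some (6, [81,4,6,54,1215,729,9]),
    some (6, [7,9,20,45,1944,2097,486]),
    some (3, [1,168,396,549,495,486,729]),
    some (3, [4,3,225,90,153,1701,729]),
    some (3, [16,21,9,36,369,972,729]),
    some (4, [7,4,18,45,198,1944,1701]),
    some (4, [23,2,711,333,396,1944,243]),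
    some (4, [2,8,9,36,126,486,1701]),
    some (6, [2,18,16,36,486,711,1944]),
    some (6, [4,162,87,54,1215,1233,729]),
    some (6, [5,18,11,45,1944,2142,243]),
    some (3, [1,3,198,63,18,243,729]),
    some (3, [22,21,711,333,396,1701,729]),
    some (3, [25,12,9,36,612,972,729]),
    some (4, [16,22,18,45,684,1944,1701]),
    some (4, [5,2,225,90,153,1944,243]),
    some (4, [2,26,9,36,612,486,1701]),
    some (6, [2,18,7,36,486,225,1944]),
    some (6, [166,162,168,54,1215,990,729]),
    some (6, [5,18,2,45,1944,198,243]),
    some (3, [1,129,684,306,261,243,729]),
    some (3, [130,129,225,90,396,1701,729]),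
    some (3, [7,3,9,36,126,972,729]),
    some (4, [8,5,198,63,18,1215,972]),
    some (4, [1,7,153,180,225,486,972]),
    some (4, [2,17,9,36,369,486,1701]),
    some (6, [1,162,87,135,486,612,729])]

def certTable3Row22 : List (Option (ℕ × List ℕ)) :=
  [none,
    none,
    none,
    none,
    none,
    none,
    none,
    none,
    none,
    none,
    none,
    none,
    none,
    none,
    none,
    none,
    none,
    none,
    none,
    none,
    none,
    none,
    none,
    none,
    none,
    none,
    none]

def certTable3Row23 : List (Option (ℕ × List ℕ)) :=
  [none,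
    none,
    none,
    none,
    none,
    none,
    none,
    none,
    none,
    none,
    none,
    none,
    none,
    none,
    none,
    none,
    none,
    none,
    none,
    none,
    none,
    none,
    none,
    none,
    none,
    none,
    none]

def certTable3Row24 : List (Option (ℕ × List ℕ)) :=
  [some (5, [7,81,3,54,972,9,729]),
    some (3, [6,154,1683,918,810,729,486]),
    some (5, [8,9,20,45,1701,1854,486]),
    some (3, [6,7,9,27,81,729,1944]),
    some (4, [8,5,9,45,153,1215,972]),
    some (3, [6,13,927,1566,1539,729,1215]),
    some (4, [2,206,198,180,369,486,1701]),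
    some (5, [1,81,165,135,243,468,729]),
    some (4, [1,7,18,36,225,486,972]),
    some (5, [7,81,165,54,972,981,729]),
    some (3, [6,11,855,1647,1620,1458,486]),
    some (5, [4,18,2,45,1701,198,243]),
    some (3, [15,16,9,27,324,729,1944]),
    some (4, [17,23,9,45,396,1215,972]),
    some (3, [6,4,198,108,81,729,1215]),
    some (4, [2,8,198,180,126,486,1701]),
    some (5, [2,9,22,36,243,369,1701]),
    some (4, [1,25,18,36,468,486,972]),
    some (5, [7,81,84,54,972,1953,729]),
    some (3, [6,1,225,189,81,729,486]),
    some (5, [4,18,11,45,1701,1899,243]),
    some (3, [24,25,9,27,567,729,1944]),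
    some (4, [26,14,9,45,639,1215,972]),
    some (3, [204,157,198,108,324,729,1215]),
    some (4, [2,161,198,180,612,486,1701]),
    some (5, [1,81,3,135,243,225,729]),
    some (4, [1,16,18,36,711,486,972])]

def certTable3Row25 : List (Option (ℕ × List ℕ)) :=
  [none,
    none,
    none,
    none,
    none,
    none,
    none,
    none,
    none,
    none,
    none,
    none,
    none,
    none,
    none,
    none,
    none,
    none,
    none,
    none,
    none,
    none,
    none,
    none,
    none,
    none,
    none]

def certTable3Row26 : List (Option (ℕ × List ℕ)) :=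
  [none,
    none,
    none,
    none,
    none,
    none,
    none,
    none,
    none,
    none,
    none,
    none,
    none,
    none,
    none,
    none,
    none,
    none,
    none,
    none,
    none,
    none,
    none,
    none,
    none,
    none,
    none]

def certTable3 : List (List (Option (ℕ × List ℕ))) :=
  [certTable3Row0,
   certTable3Row1,
   certTable3Row2,
   certTable3Row3,
   certTable3Row4,
   certTable3Row5,
   certTable3Row6,
   certTable3Row7,
   certTable3Row8,
   certTable3Row9,
   certTable3Row10,
   certTable3Row11,
   certTable3Row12,
   certTable3Row13,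
   certTable3Row14,
   certTable3Row15,
   certTable3Row16,
   certTable3Row17,
   certTable3Row18,
   certTable3Row19,
   certTable3Row20,
   certTable3Row21,
   certTable3Row22,
   certTable3Row23,
   certTable3Row24,
   certTable3Row25,
   certTable3Row26]

theorem checkLevi3 : checkLevi (0, 1, 0) certTable3 = true := by
  decide +kernel

end CfsgLib.SmallGroups.Omega7Three
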