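import Cfsg.Agent.Lib.SmallGroups.Omega7Three.Cert

/-!
Conjugacy certificates for the Levi factor (1, 0, 1).
-/

set_option autoImplicit false

namespace CfsgLib.SmallGroups.Omega7Three

def certTable4Row0 : List (Option (ℕ × List ℕ)) :=
  [some (4, [81,4,6,54,1215,729,9]),
    none,
    none,
    some (4, [6,85,168,54,747,729,495]),
    none,
    none,
    some (4, [3,166,87,54,738,729,252]),
    none,
    none,
    some (4, [81,85,6,54,1215,729,1467]),
    none,
    none,
    some (4, [165,166,168,54,252,729,1953]),
    none,
    none,
    some (4, [3,4,87,54,9,729,1710]),
    none,
    none,
    some (4, [87,166,6,54,504,729,738]),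
    none,
    none,
    some (4, [6,4,168,54,18,729,1224]),
    none,
    none,
    some (4, [168,85,87,54,261,729,981]),
    none,
    none]

def certTable4Row1 : List (Option (ℕ × List ℕ)) :=
  [none,
    none,
    none,
    none,
    none,
    none,
    none,
    none,
    none,
    none,
    none,
    none,
    none,
    none,
    none,
    none,
    none,
    none,
    none,
    none,
    none,
    none,
    none,
    none,
    none,
    none,
    none]

def certTable4Row2 : List (Option (ℕ × List ℕ)) :=
  [none,
    none,
    none,
    none,
    none,
    none,
    none,
    none,
    none,
    none,
    none,
    none,
    none,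
    none,
    none,
    none,
    none,
    none,
    none,
    none,
    none,
    none,
    none,
    none,
    none,
    none,
    none]

def certTable4Row3 : List (Option (ℕ × List ℕ)) :=
  [none,
    none,
    some (4, [6,1,15,45,153,729,684]),
    none,
    none,
    some (4, [15,1,663,702,396,729,441]),
    none,
    none,
    some (4, [21,1,339,702,684,729,198]),
    none,
    none,
    some (4, [6,19,15,45,882,729,2142]),
    none,
    none,
    some (4, [3,232,132,90,927,729,1899]),
    none,
    none,
    some (4, [18,25,1023,1989,1944,729,1656]),
    none,
    none,
    some (4, [18,10,15,45,486,729,1413]),
    none,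
    none,
    some (4, [3,7,132,90,198,729,1170]),
    none,
    none,
    some (4, [24,13,465,576,639,729,927])]

def certTable4Row4 : List (Option (ℕ × List ℕ)) :=
  [none,
    none,
    none,
    none,
    none,
    none,
    none,
    none,
    none,
    none,
    none,
    none,
    none,
    none,
    none,
    none,
    none,
    none,
    none,
    none,
    none,
    none,
    none,
    none,
    none,
    none,
    none]

def certTable4Row5 : List (Option (ℕ × List ℕ)) :=
  [none,
    none,
    none,
    none,
    none,
    none,
    none,
    none,
    none,
    none,
    none,
    none,
    none,
    none,
    none,
    none,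
    none,
    none,
    none,
    none,
    none,
    none,
    none,
    none,
    none,
    none,
    none]

def certTable4Row6 : List (Option (ℕ × List ℕ)) :=
  [none,
    none,
    some (4, [6,1,15,36,126,729,711]),
    none,
    none,
    some (4, [15,1,663,378,369,729,468]),
    none,
    none,
    some (4, [21,1,339,378,711,729,225]),
    none,
    none,
    some (4, [6,19,15,36,855,729,2169]),
    none,
    none,
    some (4, [3,205,159,180,954,729,1926]),
    none,
    none,
    some (4, [18,25,1050,1008,1944,729,1683]),
    none,
    none,
    some (4, [18,10,15,36,486,729,1440]),
    none,
    none,
    some (4, [3,7,159,180,225,729,1197]),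
    none,
    none,
    some (4, [324,649,339,378,486,729,954])]

def certTable4Row7 : List (Option (ℕ × List ℕ)) :=
  [none,
    none,
    none,
    none,
    none,
    none,
    none,
    none,
    none,
    none,
    none,
    none,
    none,
    none,
    none,
    none,
    none,
    none,
    none,
    none,
    none,
    none,
    none,
    none,
    none,
    none,
    none]

def certTable4Row8 : List (Option (ℕ × List ℕ)) :=
  [none,
    none,
    none,
    none,
    none,
    none,
    none,
    none,
    none,
    none,
    none,
    none,
    none,
    none,
    none,
    none,
    none,
    none,
    none,
    none,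
    none,
    none,
    none,
    none,
    none,
    none,
    none]

def certTable4Row9 : List (Option (ℕ × List ℕ)) :=
  [some (4, [81,598,303,540,1215,729,1467]),
    none,
    none,
    some (4, [6,127,231,72,747,729,1953]),
    none,
    none,
    some (4, [3,205,159,63,738,729,1710]),
    none,
    none,
    some (4, [384,679,303,540,504,729,738]),
    none,
    none,
    some (4, [165,88,726,306,252,729,1224]),
    none,
    none,
    some (4, [3,7,159,63,9,729,981]),
    none,
    none,
    some (4, [81,517,303,540,1215,729,9]),
    none,
    none,
    some (4, [6,1,231,72,18,729,495]),
    none,
    none,
    some (4, [168,1,636,315,261,729,252]),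
    none,
    none]

def certTable4Row10 : List (Option (ℕ × List ℕ)) :=
  [none,
    none,
    none,
    none,
    none,
    none,
    none,
    none,
    none,
    none,
    none,
    none,
    none,
    none,
    none,
    none,
    none,
    none,
    none,
    none,
    none,
    none,
    none,
    none,
    none,
    none,
    none]

def certTable4Row11 : List (Option (ℕ × List ℕ)) :=
  [none,
    none,
    none,
    none,
    none,
    none,
    none,
    none,
    none,
    none,
    none,
    none,
    none,
    none,
    none,
    none,
    none,
    none,
    none,
    none,
    none,
    none,
    none,
    none,
    none,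
    none,
    none]

def certTable4Row12 : List (Option (ℕ × List ℕ)) :=
  [none,
    none,
    some (4, [18,10,312,288,486,729,927]),
    none,
    none,
    some (4, [12,25,591,459,441,729,1413]),
    none,
    none,
    some (4, [3,7,24,45,198,729,1170]),
    none,
    none,
    some (4, [18,1,312,288,486,729,198]),
    none,
    none,
    some (4, [6,1,231,90,153,729,684]),
    none,
    none,
    some (4, [3,25,24,45,1656,729,441]),
    none,
    none,
    some (4, [18,19,312,288,486,729,1656]),
    none,
    none,
    some (4, [6,127,231,90,882,729,2142]),
    none,
    none,
    some (4, [3,16,24,45,927,729,1899])]

def certTable4Row13 : List (Option (ℕ × List ℕ)) :=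
  [none,
    none,
    none,
    none,
    none,
    none,
    none,
    none,
    none,
    none,
    none,
    none,
    none,
    none,
    none,
    none,
    none,
    none,
    none,
    none,
    none,
    none,
    none,
    none,
    none,
    none,
    none]

def certTable4Row14 : List (Option (ℕ × List ℕ)) :=
  [none,
    none,
    none,
    none,
    none,
    none,
    none,
    none,
    none,
    none,
    none,
    none,
    none,
    none,
    none,
    none,
    none,
    none,
    none,
    none,
    none,
    none,
    none,
    none,
    none,
    none,
    none]

def certTable4Row15 : List (Option (ℕ × List ℕ)) :=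
  [none,
    none,
    some (4, [3,166,87,135,954,729,468]),
    none,
    none,
    some (4, [18,4,6,36,1215,729,225]),
    none,
    none,
    some (4, [6,85,168,135,855,729,711]),
    none,
    none,
    some (4, [3,4,87,135,225,729,1926]),
    none,
    none,
    some (4, [18,22,6,36,1215,729,1683]),
    none,
    none,
    some (4, [6,13,897,1593,1584,729,2169]),
    none,
    none,
    some (4, [18,10,312,279,486,729,1197]),
    none,
    none,
    some (4, [24,13,6,36,612,729,954]),
    none,
    none,
    some (4, [6,4,168,135,126,729,1440])]

def certTable4Row16 : List (Option (ℕ × List ℕ)) :=
  [none,
    none,
    none,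
    none,
    none,
    none,
    none,
    none,
    none,
    none,
    none,
    none,
    none,
    none,
    none,
    none,
    none,
    none,
    none,
    none,
    none,
    none,
    none,
    none,
    none,
    none,
    none]

def certTable4Row17 : List (Option (ℕ × List ℕ)) :=
  [none,
    none,
    none,
    none,
    none,
    none,
    none,
    none,
    none,
    none,
    none,
    none,
    none,
    none,
    none,
    none,
    none,
    none,
    none,
    none,
    none,
    none,
    none,
    none,
    none,
    none,
    none]

def certTable4Row18 : List (Option (ℕ × List ℕ)) :=
  [some (4, [164,162,486,513,276,747,1458]),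
    none,
    none,
    some (4, [6,154,204,63,747,729,1953]),
    none,
    none,
    some (4, [3,232,132,72,738,729,1710]),
    none,
    none,
    some (4, [84,169,294,315,495,729,738]),
    none,
    none,
    some (4, [153,199,204,63,486,729,1224]),
    none,
    none,
    some (4, [3,7,132,72,9,729,981]),
    none,
    none,
    some (4, [2,162,486,513,276,18,1458]),
    none,
    none,
    some (4, [6,1,204,63,18,729,495]),
    none,
    none,
    some (4, [3,133,132,72,1467,729,252]),
    none,
    none]

def certTable4Row19 : List (Option (ℕ × List ℕ)) :=
  [none,
    none,
    none,
    none,
    none,
    none,
    none,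
    none,
    none,
    none,
    none,
    none,
    none,
    none,
    none,
    none,
    none,
    none,
    none,
    none,
    none,
    none,
    none,
    none,
    none,
    none,
    none]

def certTable4Row20 : List (Option (ℕ × List ℕ)) :=
  [none,
    none,
    none,
    none,
    none,
    none,
    none,
    none,
    none,
    none,
    none,
    none,
    none,
    none,
    none,
    none,
    none,
    none,
    none,
    none,
    none,
    none,
    none,
    none,
    none,
    none,
    none]

def certTable4Row21 : List (Option (ℕ × List ℕ)) :=
  [none,
    none,
    some (4, [3,166,87,216,927,729,441]),
    none,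
    none,
    some (4, [18,4,6,45,1215,729,198]),
    none,
    none,
    some (4, [6,85,168,216,882,729,684]),
    none,
    none,
    some (4, [3,4,87,216,198,729,1899]),
    none,
    none,
    some (4, [18,22,6,45,1215,729,1656]),
    none,
    none,
    some (4, [165,166,168,216,441,729,2142]),
    none,
    none,
    some (4, [18,10,285,531,486,729,1170]),
    none,
    none,
    some (4, [24,13,6,45,639,729,927]),
    none,
    none,
    some (4, [6,4,168,216,153,729,1413])]

def certTable4Row22 : List (Option (ℕ × List ℕ)) :=
  [none,
    none,
    none,
    none,
    none,
    none,
    none,
    none,
    none,
    none,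
    none,
    none,
    none,
    none,
    none,
    none,
    none,
    none,
    none,
    none,
    none,
    none,
    none,
    none,
    none,
    none,
    none]

def certTable4Row23 : List (Option (ℕ × List ℕ)) :=
  [none,
    none,
    none,
    none,
    none,
    none,
    none,
    none,
    none,
    none,
    none,
    none,
    none,
    none,
    none,
    none,
    none,
    none,
    none,
    none,
    none,
    none,
    none,
    none,
    none,
    none,
    none]

def certTable4Row24 : List (Option (ℕ × List ℕ)) :=
  [none,
    none,
    some (4, [18,10,285,522,486,729,954]),
    none,
    none,
    some (4, [153,199,204,180,486,729,1440]),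
    none,
    none,
    some (4, [3,7,24,36,225,729,1197]),
    none,
    none,
    some (4, [18,1,285,522,486,729,225]),
    none,
    none,
    some (4, [6,1,204,180,126,729,711]),
    none,
    none,
    some (4, [3,25,24,36,1683,729,468]),
    none,
    none,
    some (4, [18,19,285,522,486,729,1683]),
    none,
    none,
    some (4, [6,154,204,180,855,729,2169]),
    none,
    none,
    some (4, [3,16,24,36,954,729,1926])]

def certTable4Row25 : List (Option (ℕ × List ℕ)) :=
  [none,
    none,
    none,
    none,
    none,
    none,
    none,
    none,
    none,
    none,
    none,
    none,
    none,
    none,
    none,
    none,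
    none,
    none,
    none,
    none,
    none,
    none,
    none,
    none,
    none,
    none,
    none]

def certTable4Row26 : List (Option (ℕ × List ℕ)) :=
  [none,
    none,
    none,
    none,
    none,
    none,
    none,
    none,
    none,
    none,
    none,
    none,
    none,
    none,
    none,
    none,
    none,
    none,
    none,
    none,
    none,
    none,
    none,
    none,
    none,
    none,
    none]

def certTable4 : List (List (Option (ℕ × List ℕ))) :=
  [certTable4Row0,
   certTable4Row1,
   certTable4Row2,
   certTable4Row3,
   certTable4Row4,
   certTable4Row5,
   certTable4Row6,
   certTable4Row7,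
   certTable4Row8,
   certTable4Row9,
   certTable4Row10,
   certTable4Row11,
   certTable4Row12,
   certTable4Row13,
   certTable4Row14,
   certTable4Row15,
   certTable4Row16,
   certTable4Row17,
   certTable4Row18,
   certTable4Row19,
   certTable4Row20,
   certTable4Row21,
   certTable4Row22,
   certTable4Row23,
   certTable4Row24,
   certTable4Row25,
   certTable4Row26]

theorem checkLevi4 : checkLevi (1, 0, 1) certTable4 = true := by
  decide +kernel

end CfsgLib.SmallGroups.Omega7Three
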