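import Mathlib

/-!
Packed rows for `7 × 7` matrices over the field with three elements: a row is a number with
seven lanes of five bits, so that a row times a matrix is a linear combination of numbers.
-/

set_option autoImplicit false

namespace CfsgLib.SmallGroups.Omega7Three

abbrev M7 : Type := Matrix (Fin 7) (Fin 7) (ZMod 3)

def lanes : ℕ → ℕ → List ℕ
  | 0, _ => []
  | n + 1, x => (x % 32) :: lanes n (x / 32)

def encL : List ℕ → ℕ
  | [] => 0
  | v :: vs => v + 32 * encL vs

def red (x : ℕ) : ℕ := encL ((lanes 7 x).map (· % 3))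

def rowMul : ℕ → List ℕ → ℕ
  | _, [] => 0
  | r, b :: B => (r % 32) * b + rowMul (r / 32) B

def mulC (A B : List ℕ) : List ℕ := A.map fun r => red (rowMul r B)

def trC : ℕ → List ℕ → List ℕ
  | 0, _ => []
  | n + 1, A => encL (A.map (· % 32)) :: trC n (A.map (· / 32))

def trits : ℕ → ℕ → List ℕ
  | 0, _ => []
  | n + 1, x => (x % 3) :: trits n (x / 3)

/-- The packed rows of a matrix. -/
def rows (M : M7) : List ℕ := List.ofFn fun i => encL (List.ofFn fun k => (M i k).val)

/-- A matrix from seven numbers whose ternary digits are the entries of the rows. -/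
def matOf (g : List ℕ) : M7 := Matrix.of fun i k => ((g.getD i.val 0 / 3 ^ k.val : ℕ) : ZMod 3)

/-- The packed rows of `matOf g`. -/
def codeOf (g : List ℕ) : List ℕ := (List.range 7).map fun i => encL (trits 7 (g.getD i 0))

/-- The packed identity matrix. -/
def oneC : List ℕ := [1, 32, 1024, 32768, 1048576, 33554432, 1073741824]

theorem lanes_encL : ∀ vs : List ℕ, (∀ v ∈ vs, v < 32) → lanes vs.length (encL vs) = vs
  | [], _ => rfl
  | v :: vs, h => by
    have hv := h v (List.mem_cons_self ..)
    have ih := lanes_encL vs fun w hw => h w (List.mem_cons_of_mem _ hw)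
    simp only [List.length_cons, lanes, encL]
    rw [show (v + 32 * encL vs) % 32 = v by omega, show (v + 32 * encL vs) / 32 = encL vs by omega, ih]

theorem encL_inj {vs ws : List ℕ} (hv : ∀ v ∈ vs, v < 32) (hw : ∀ v ∈ ws, v < 32)
    (hl : vs.length = ws.length) (h : encL vs = encL ws) : vs = ws := by
  rw [← lanes_encL vs hv, ← lanes_encL ws hw, h, hl]

theorem val_lt_32 (x : ZMod 3) : x.val < 32 := lt_of_lt_of_le (ZMod.val_lt x) (by norm_num)

theorem rows_injective : Function.Injective rows := by
  intro A B h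
  have h' := List.ofFn_inj.1 h
  ext i k
  have := encL_inj (fun v hv => by obtain ⟨j, rfl⟩ := List.mem_ofFn.1 hv; exact val_lt_32 _)
    (fun v hv => by obtain ⟨j, rfl⟩ := List.mem_ofFn.1 hv; exact val_lt_32 _) (by simp) (congrFun h' i)
  exact ZMod.val_injective 3 (congrFun (List.ofFn_inj.1 this) k)

/-- A combination of rows, by recursion. -/
def dotL : List ℕ → List ℕ → ℕ
  | a :: as, b :: bs => a * b + dotL as bs
  | _, _ => 0

theorem rowMul_encL : ∀ (as bs : List ℕ), (∀ a ∈ as, a < 32) → as.length = bs.length →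
    rowMul (encL as) bs = dotL as bs
  | [], [], _, _ => rfl
  | [], _ :: _, _, hl => by simp at hl
  | _ :: _, [], _, hl => by simp at hl
  | a :: as, b :: bs, h, hl => by
    have ha := h a (List.mem_cons_self ..)
    have ih := rowMul_encL as bs (fun w hw => h w (List.mem_cons_of_mem _ hw)) (by simpa using hl)
    simp only [encL, rowMul, dotL]
    rw [show (a + 32 * encL as) % 32 = a by omega, show (a + 32 * encL as) / 32 = encL as by omega, ih]

theorem encL_ofFn : ∀ {m : ℕ} (f : Fin m → ℕ), encL (List.ofFn f) = ∑ k, f k * 32 ^ (k : ℕ)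
  | 0, f => by simp [encL]
  | m + 1, f => by
    rw [List.ofFn_succ, encL, encL_ofFn, Fin.sum_univ_succ, Finset.mul_sum]
    simp [pow_succ, mul_comm, mul_left_comm]

theorem dotL_ofFn : ∀ {n : ℕ} (a c : Fin n → ℕ), dotL (List.ofFn a) (List.ofFn c) = ∑ j, a j * c j
  | 0, a, c => by simp [dotL]
  | n + 1, a, c => by rw [List.ofFn_succ, List.ofFn_succ, dotL, dotL_ofFn, Fin.sum_univ_succ]

theorem rows_mul (A B : M7) : rows (A * B) = mulC (rows A) (rows B) := by
  simp only [mulC, rows, List.map_ofFn]
  refine List.ofFn_inj.2 (funext fun i => ?_)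
  have hdot : dotL (List.ofFn fun j => (A i j).val) (rows B) =
      encL (List.ofFn fun k => ∑ j, (A i j).val * (B j k).val) := by
    rw [rows, dotL_ofFn, encL_ofFn]
    simp only [encL_ofFn, Finset.mul_sum, Finset.sum_mul, mul_assoc]
    exact Finset.sum_comm
  simp only [Function.comp_apply]
  rw [show (List.ofFn fun i => encL (List.ofFn fun k => (B i k).val)) = rows B from rfl,
    rowMul_encL _ _ (fun a ha => by obtain ⟨j, rfl⟩ := List.mem_ofFn.1 ha; exact val_lt_32 _)
    (by simp [rows]), hdot, red]
  have hlt : ∀ v ∈ (List.ofFn fun k => ∑ j, (A i j).val * (B j k).val), v < 32 := by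
    intro v hv
    obtain ⟨k, rfl⟩ := List.mem_ofFn.1 hv
    have hb : ∀ j ∈ (Finset.univ : Finset (Fin 7)), (A i j).val * (B j k).val ≤ 4 := fun j _ =>
      le_trans (Nat.mul_le_mul (Nat.le_of_lt_succ (ZMod.val_lt (A i j)))
        (Nat.le_of_lt_succ (ZMod.val_lt (B j k)))) (by norm_num)
    have h7 := Finset.sum_le_card_nsmul _ _ _ hb
    rw [Finset.card_univ, Fintype.card_fin, smul_eq_mul] at h7
    exact lt_of_le_of_lt h7 (by norm_num)
  have hl := lanes_encL _ hlt
  rw [List.length_ofFn] at hl
  rw [hl, List.map_ofFn]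
  refine congrArg encL (List.ofFn_inj.2 (funext fun k => ?_))
  simp only [Function.comp_apply]
  rw [Matrix.mul_apply, ← ZMod.val_natCast (n := 3), Nat.cast_sum]
  refine congrArg ZMod.val ?_
  exact Finset.sum_congr rfl fun j _ => by rw [Nat.cast_mul, ZMod.natCast_zmod_val, ZMod.natCast_zmod_val]

theorem rows_one : rows (1 : M7) = oneC := by decide +kernel

theorem rows_transpose (A : M7) : rows A.transpose = trC 7 (rows A) := by
  have hA : ∀ i k, (A i k).val < 32 := fun i k => val_lt_32 _
  have e : ∀ (a r : ℕ), a < 32 → (a + 32 * r) % 32 = a ∧ (a + 32 * r) / 32 = r := by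
    intro a r h; omega
  simp [rows, trC, List.ofFn_succ, encL, Matrix.transpose_apply, (e _ _ (hA _ _)).1, (e _ _ (hA _ _)).2,
    Nat.mod_eq_of_lt (hA _ _)]

theorem rows_matOf (g : List ℕ) : rows (matOf g) = codeOf g := by
  simp [rows, codeOf, matOf, List.range_succ, List.ofFn_succ, trits, Nat.div_div_eq_div_mul,
    ZMod.val_natCast]

attribute [irreducible] red rowMul

end CfsgLib.SmallGroups.Omega7Three
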