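import Cfsg.Agent.Lib.SmallGroups.Omega7Three.Param

/-!
The stabiliser of a maximal totally singular subspace meets the commutator subgroup in elements
of determinant one on that subspace.
-/

set_option autoImplicit false

namespace CfsgLib.SmallGroups.Omega7Three

open Matrix

/-- Square matrices of size three. -/
abbrev M3 : Type := Matrix (Fin 3) (Fin 3) (ZMod 3)

/-- The block matrix acting by `A` on the first three basis vectors and dually by `B` on the last three. -/
def levMat (A B : M3) : M7 :=
  !![A 0 0, A 0 1, A 0 2, 0, 0, 0, 0;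
     A 1 0, A 1 1, A 1 2, 0, 0, 0, 0;
     A 2 0, A 2 1, A 2 2, 0, 0, 0, 0;
     0, 0, 0, 1, 0, 0, 0;
     0, 0, 0, 0, B 2 2, B 1 2, B 0 2;
     0, 0, 0, 0, B 2 1, B 1 1, B 0 1;
     0, 0, 0, 0, B 2 0, B 1 0, B 0 0]

theorem levMat_one : levMat 1 1 = 1 := by decide +kernel

theorem levMat_mul (A B A' B' : M3) : levMat A B * levMat A' B' = levMat (A * A') (B' * B) := by
  ext i k
  fin_cases i <;> fin_cases k <;>
    (simp [levMat, Matrix.mul_apply, Fin.sum_univ_seven, Fin.sum_univ_three] <;> ring)

theorem levMat_transpose (A B : M3) : (levMat A B)ᵀ * G7 = G7 * levMat B A := by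
  ext i k
  fin_cases i <;> fin_cases k <;> simp [levMat, G7, Matrix.mul_apply, Fin.sum_univ_seven]

theorem levMat_gram {A B : M3} (h : B * A = 1) : (levMat A B)ᵀ * G7 * levMat A B = G7 := by
  rw [levMat_transpose, mul_assoc, levMat_mul, h, levMat_one, mul_one]

theorem levMat_low (A B : M3) : ∀ i k : Fin 7, 3 ≤ i.val → k.val < 3 → levMat A B i k = 0 := by
  intro i k hi hk
  fin_cases i <;> fin_cases k <;> simp at hi hk <;> simp [levMat]

theorem top3_levMat (A B : M3) : top3 (levMat A B) = A := by
  ext i k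
  fin_cases i <;> fin_cases k <;> simp [top3, levMat]

/-- The Levi embedding. -/
noncomputable def lev : GL (Fin 3) (ZMod 3) →* O7 :=
  MonoidHom.mk' (fun A => (exists_of_gram (levMat_gram A.inv_mul)).choose) fun A B => val7_injective (by
    rw [map_mul, (exists_of_gram (levMat_gram (A * B).inv_mul)).choose_spec,
      (exists_of_gram (levMat_gram A.inv_mul)).choose_spec, (exists_of_gram (levMat_gram B.inv_mul)).choose_spec,
      levMat_mul, Units.val_mul, _root_.mul_inv_rev, Units.val_mul])

theorem val_lev (A : GL (Fin 3) (ZMod 3)) : val7 (lev A) = levMat (A : M3) (A⁻¹ : GL (Fin 3) (ZMod 3)) :=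
  (exists_of_gram (levMat_gram A.inv_mul)).choose_spec

/-- The signed permutation squaring to two sign changes. -/
def rotMat : M3 := !![0, 1, 0; 2, 0, 0; 0, 0, 1]

theorem diag_cases : ∀ D : Fin 3 → ZMod 3, (Matrix.diagonal D).det ≠ 0 →
    ∃ A ∈ [(1 : M3), Matrix.diagonal ![2, 1, 1]], ∃ R ∈ [(1 : M3), rotMat, !![0, 0, 1; 0, 1, 0; 2, 0, 0],
      !![1, 0, 0; 0, 0, 1; 0, 2, 0]], Matrix.diagonal D = A * (R * R) ∧ R.det = 1 ∧
      ((Matrix.diagonal D).det = 1 ↔ A = 1) := by
  decide +kernel

theorem sq_mem_W7 (g : O7) : g * g ∈ W7 := by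
  obtain ⟨a, ha⟩ := exists_coset g
  have hc : cosetRep a * cosetRep a ∈ W7 := by
    have ht : tElt * tElt = 1 := val7_injective (by rw [map_mul, map_one, val_tElt]; decide +kernel)
    have hn : negElt * negElt = 1 := val7_injective (by rw [map_mul, map_one, val_negElt, neg_one_mul, neg_neg])
    fin_cases a
    · simp [cosetRep]
    · simp [cosetRep, ht]
    · simp [cosetRep, hn]
    · change negElt * tElt * (negElt * tElt) ∈ W7
      rw [mul_assoc, ← mul_assoc tElt negElt, ← negElt_central, mul_assoc negElt tElt, ht, mul_one, hn]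
      exact one_mem _
  let π : O7 →* O7 ⧸ W7 := QuotientGroup.mk' W7
  have e : π g = π (cosetRep a) := (QuotientGroup.eq.2 ha).symm
  rw [← QuotientGroup.eq_one_iff]
  change π (g * g) = 1
  rw [map_mul, e, ← map_mul]
  exact (QuotientGroup.eq_one_iff _).2 hc

theorem lev_class (A : GL (Fin 3) (ZMod 3)) :
    ((QuotientGroup.mk' W7) (lev A)) =
      if (A : M3).det = 1 then 1 else QuotientGroup.mk' W7 tElt := by
  set π : O7 →* O7 ⧸ W7 := QuotientGroup.mk' W7 with hπ
  have hsq : ∀ g : O7, π g * π g = 1 := fun g => by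
    rw [← map_mul]; exact (QuotientGroup.eq_one_iff _).2 (sq_mem_W7 g)
  suffices H : ∀ M : M3, M.det ≠ 0 → ∀ B : GL (Fin 3) (ZMod 3), (B : M3) = M →
      π (lev B) = if M.det = 1 then 1 else π tElt from H _ (GeneralLinearGroup.det_ne_zero A) A rfl
  intro M hM
  refine Matrix.diagonal_transvection_induction_of_det_ne_zero (fun M => ∀ B : GL (Fin 3) (ZMod 3),
    (B : M3) = M → π (lev B) = if M.det = 1 then 1 else π tElt) M hM ?_ ?_ ?_
  · intro D hD B hB
    obtain ⟨A₀, hA₀, R, -, hDeq, hR, hiff⟩ := diag_cases D hD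
    let R' : GL (Fin 3) (ZMod 3) := GeneralLinearGroup.mkOfDetNeZero R (by rw [hR]; exact one_ne_zero)
    have hR' : (R' : M3) = R := rfl
    simp only [List.mem_cons, List.not_mem_nil, or_false] at hA₀
    rcases hA₀ with rfl | rfl
    · have hBR : B = R' * R' := Units.ext (by rw [hB, hDeq, one_mul, Units.val_mul, hR'])
      rw [hBR, map_mul, map_mul, hsq, if_pos (hiff.2 rfl)]
    · let A' : GL (Fin 3) (ZMod 3) := GeneralLinearGroup.mkOfDetNeZero (Matrix.diagonal ![2, 1, 1])
        (by decide +kernel)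
      have hBR : B = A' * (R' * R') := Units.ext (by rw [hB, hDeq]; rfl)
      have hA' : lev A' = tElt := val7_injective (by
        have hi : (A'⁻¹ : GL (Fin 3) (ZMod 3)) = A' := inv_eq_of_mul_eq_one_right (Units.ext (by
          rw [Units.val_mul]; change Matrix.diagonal ![2, 1, 1] * Matrix.diagonal ![2, 1, 1] = 1
          decide +kernel))
        rw [val_lev, hi, val_tElt]
        change levMat (Matrix.diagonal ![2, 1, 1]) (Matrix.diagonal ![2, 1, 1]) = tMat
        decide +kernel)
      rw [hBR, map_mul, map_mul, map_mul, map_mul, hsq, mul_one, hA', if_neg (fun h => by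
        have := hiff.1 h
        exact absurd this (by decide +kernel))]
  · intro T B hB
    rw [TransvectionStruct.det, if_pos rfl]
    let T' : GL (Fin 3) (ZMod 3) := GeneralLinearGroup.mkOfDetNeZero (transvection T.i T.j (-T.c))
      (by rw [det_transvection_of_ne _ _ T.hij]; exact one_ne_zero)
    have h3 : (3 : ZMod 3) = 0 := rfl
    have hBT : B = T' * T' := Units.ext (by
      rw [hB, Units.val_mul]
      change transvection T.i T.j T.c = transvection T.i T.j (-T.c) * transvection T.i T.j (-T.c)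
      rw [transvection_mul_transvection_same _ _ T.hij]
      congr 1
      linear_combination T.c * h3)
    rw [hBT, map_mul, map_mul, hsq]
  · intro M N hM hN ihM ihN B hB
    have e : B = GeneralLinearGroup.mkOfDetNeZero M hM * GeneralLinearGroup.mkOfDetNeZero N hN :=
      Units.ext (by rw [hB, Units.val_mul]; rfl)
    rw [e, map_mul, map_mul, ihM _ rfl, ihN _ rfl, det_mul]
    have hd : ∀ x y : ZMod 3, x ≠ 0 → y ≠ 0 → (x * y = 1 ↔ (x = 1 ↔ y = 1)) := by decide
    simp only [hd _ _ hM hN]
    by_cases hM1 : M.det = 1 <;> by_cases hN1 : N.det = 1 <;> simp [hM1, hN1, hsq]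

theorem eq_zero_of_gram_col {X : M7} (hG : Xᵀ * G7 * X = G7) (hcol : ∀ i k : Fin 7, k.val < 3 → X i k = (1 : M7) i k)
    (i k : Fin 7) (hi : 4 ≤ i.val) : X i k = (1 : M7) i k := by
  have key : ∀ j : Fin 7, j.val < 3 → (Xᵀ * G7 * X) j k = X (Fin.rev j) k := by
    intro j hj
    have hX : ∀ a : Fin 7, Xᵀ j a = (1 : M7) a j := fun a => hcol a j hj
    have hrow : (Xᵀ * G7) j = G7 j := by
      ext a
      rw [Matrix.mul_apply, Finset.sum_eq_single j]
      · rw [hX, Matrix.one_apply_eq, one_mul]
      · intro b _ hb; rw [hX, Matrix.one_apply_ne hb, zero_mul]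
      · simp
    rw [Matrix.mul_apply, Finset.sum_eq_single (Fin.rev j)]
    · rw [congrFun hrow (Fin.rev j), G7, Matrix.of_apply, if_pos (by simp [Fin.val_rev]; omega),
        if_neg (by omega), one_mul]
    · intro b _ hb
      rw [congrFun hrow b, G7, Matrix.of_apply, if_neg (fun h => hb (Fin.ext (by simp [Fin.val_rev]; omega))),
        zero_mul]
    · simp
  have h := key (Fin.rev i) (by simp [Fin.val_rev]; omega)
  rw [hG, Fin.rev_rev] at h
  rw [← h]
  have hG1 : ∀ p : Fin 7 × Fin 7, p.1.val < 3 → G7 p.1 p.2 = (1 : M7) (Fin.rev p.1) p.2 := by decide +kernel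
  rw [hG1 (Fin.rev i, k) (by simp [Fin.val_rev]; omega), Fin.rev_rev]

/-- The sign change of the middle basis vector. -/
def sMat : M7 := Matrix.diagonal ![1, 1, 1, 2, 1, 1, 1]

theorem stabiliser_facts {w : O7} (hw : w ∈ W7)
    (hlow : ∀ i k : Fin 7, 3 ≤ i.val → k.val < 3 → val7 w i k = 0) :
    ∃ A : GL (Fin 3) (ZMod 3), (A : M3).det = 1 ∧ ∃ h : O7, w = lev A * h ∧
      (∀ i k : Fin 7, k.val < 3 → val7 h i k = (1 : M7) i k) ∧
      (∀ i k : Fin 7, 4 ≤ i.val → val7 h i k = (1 : M7) i k) ∧ val7 h 3 3 = 1 := by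
  have hdet : (top3 (val7 w)).det ≠ 0 := by
    intro h0
    have : (val7 w).det = 0 := by
      rw [Matrix.twoBlockTriangular_det (val7 w) (fun i => i.val < 3) (fun i hi k hk =>
        hlow i k (Nat.le_of_not_lt hi) hk)]
      refine mul_eq_zero_of_left ?_ _
      let e : Fin 3 ≃ {i : Fin 7 // i.val < 3} :=
        { toFun := fun i => ⟨Fin.castLE (by norm_num) i, i.2⟩
          invFun := fun i => ⟨i.1.val, i.2⟩
          left_inv := fun i => rfl
          right_inv := fun i => rfl }
      rw [← Matrix.det_submatrix_equiv_self e]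
      exact h0
    rw [det_W7 hw] at this
    exact one_ne_zero this
  set A := GeneralLinearGroup.mkOfDetNeZero (top3 (val7 w)) hdet with hA
  set h := (lev A)⁻¹ * w with hh
  have hwh : w = lev A * h := by rw [hh, mul_inv_cancel_left]
  have hval : val7 h = levMat ((A⁻¹ : GL (Fin 3) (ZMod 3)) : M3) (A : M3) * val7 w := by
    rw [hh, ← map_inv, map_mul, val_lev, inv_inv]
  have hcol : ∀ i k : Fin 7, k.val < 3 → val7 h i k = (1 : M7) i k := by
    intro i k hk
    by_cases hi : i.val < 3
    · have htop : top3 (val7 h) = 1 := by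
        rw [hval, top3_mul hlow, top3_levMat]
        exact A.inv_mul
      have := congrFun (congrFun htop ⟨i.val, hi⟩) ⟨k.val, hk⟩
      simpa [top3, Matrix.one_apply, Fin.ext_iff] using this
    · rw [hval, Matrix.mul_apply, Matrix.one_apply_ne (show i ≠ k from fun e => hi (by rw [e]; exact hk))]
      refine Finset.sum_eq_zero fun j _ => ?_
      by_cases hj : j.val < 3
      · rw [levMat_low _ _ i j (Nat.le_of_not_lt hi) hj, zero_mul]
      · rw [hlow j k (Nat.le_of_not_lt hj) hk, mul_zero]
  have hrow := eq_zero_of_gram_col (val7_mem h) hcol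
  have htri : Tri (val7 h) := by
    intro i k hki
    rcases lt_or_ge k.val 3 with hk | hk
    · rw [hcol i k hk, Matrix.one_apply_ne hki.ne']
    · rw [hrow i k (by rw [Fin.lt_def] at hki; omega), Matrix.one_apply_ne hki.ne']
  have hdiag : ∀ i : Fin 7, i ≠ 3 → val7 h i i = 1 := by
    intro i hi
    rcases lt_or_ge i.val 3 with hk | hk
    · rw [hcol i i hk, Matrix.one_apply_eq]
    · rw [hrow i i (by rw [Ne, Fin.ext_iff] at hi; simp at hi; omega), Matrix.one_apply_eq]
  have he : val7 h 3 3 = 1 ∨ val7 h 3 3 = 2 := by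
    have hne : val7 h 3 3 ≠ 0 := by
      intro h0
      have hd : (val7 h).det = 0 := by
        rw [Matrix.det_of_upperTriangular (fun i k hki => htri i k hki)]
        exact Finset.prod_eq_zero (Finset.mem_univ 3) h0
      have h1 := congrArg Matrix.det (show val7 h⁻¹ * val7 h = 1 by rw [← map_mul, inv_mul_cancel, map_one])
      rw [Matrix.det_mul, hd, mul_zero, det_one] at h1
      exact zero_ne_one h1
    revert hne
    generalize val7 h 3 3 = x
    revert x
    decide
  obtain ⟨s, hs⟩ := exists_of_gram (M := sMat) (by decide +kernel)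
  have hsU : Uni (val7 h) ∨ Uni (val7 (h * s)) := by
    rcases he with he | he
    · exact Or.inl ⟨htri, fun i => if hi : i = 3 then hi ▸ he else hdiag i hi⟩
    · refine Or.inr ⟨?_, fun i => ?_⟩
      · rw [map_mul, hs]; exact htri.mul (by decide +kernel)
      · rw [map_mul, hs, htri.diag_mul (by decide +kernel)]
        by_cases hi : i = 3
        · subst hi; rw [he]; decide +kernel
        · rw [hdiag i hi, one_mul]
          revert hi; revert i; decide +kernel
  let π : O7 →* O7 ⧸ W7 := QuotientGroup.mk' W7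
  have hU : ∀ y : O7, Uni (val7 y) → π y = 1 := fun y hy => (QuotientGroup.eq_one_iff _).2
    (mem_W7_of_pow_three (k := 2) (val7_injective (by rw [map_pow, map_one]; exact hy.pow_nine)))
  have hw1 : π (lev A) * π h = 1 := by rw [← map_mul, ← hwh]; exact (QuotientGroup.eq_one_iff _).2 hw
  rw [show π (lev A) = _ from lev_class A] at hw1
  have hts : ¬ ((tMat * sMat : M7).det = 1) ∧ ¬ (sMat.det = 1) := by
    constructor <;> simp only [tMat, sMat, det_mul, det_diagonal] <;> decide
  by_cases hd : (A : M3).det = 1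
  · refine ⟨A, hd, h, hwh, hcol, fun i k hi => hrow i k hi, ?_⟩
    rw [if_pos hd, one_mul] at hw1
    rcases hsU with hu | hu
    · exact hu.2 3
    · exfalso
      have hs1 : π s = 1 := by
        have := hU _ hu
        rwa [map_mul, hw1, one_mul] at this
      exact hts.2 (hs ▸ det_W7 ((QuotientGroup.eq_one_iff _).1 hs1))
  · exfalso
    rw [if_neg hd] at hw1
    rcases hsU with hu | hu
    · rw [hU _ hu, mul_one] at hw1
      exact tElt_notMem ((QuotientGroup.eq_one_iff _).1 hw1)
    · have h1 := hU _ hu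
      have h2 : π s * π s = 1 := by
        rw [← map_mul]; exact (QuotientGroup.eq_one_iff _).2 (sq_mem_W7 s)
      rw [map_mul] at h1
      have : π (tElt * s) = 1 := by
        rw [map_mul]
        calc _ = π tElt * (π h * π s) * π s := by rw [h1, mul_one]
          _ = π tElt * π h * (π s * π s) := by simp only [mul_assoc]
          _ = 1 := by rw [hw1, h2, one_mul]
      have := det_W7 ((QuotientGroup.eq_one_iff _).1 this)
      rw [map_mul, val_tElt, hs] at this
      exact hts.1 this

end CfsgLib.SmallGroups.Omega7Three
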