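import Cfsg.Agent.Lib.SmallGroups.Omega7Three.Fusion
import Cfsg.Agent.Lib.SmallGroups.Omega7Three.Levi

/-!
The seven representatives generate pairwise non-conjugate subgroups under the commutator subgroup:
a weighted count of fixed vectors separates all but two, and an orientation of the fixed singular
subspace separates those.
-/

set_option autoImplicit false

namespace CfsgLib.SmallGroups.Omega7Three

open Matrix

/-- The weight of a value of the form. -/
def fixWeight (c : ZMod 3) : ℕ := if c = 0 then 1 else if c = 1 then 4 else 0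

/-- The weighted number of fixed vectors. -/
def fixW (M : M7) : ℕ := ∑ v : Fin 7 → ZMod 3, if M *ᵥ v = v then fixWeight (q7 v) else 0

theorem val7_inv_mul (g : O7) : val7 g⁻¹ * val7 g = 1 := by rw [← map_mul, inv_mul_cancel, map_one]

theorem val7_mul_inv (g : O7) : val7 g * val7 g⁻¹ = 1 := by rw [← map_mul, mul_inv_cancel, map_one]

theorem fixW_eq_of_conj {g : O7} {M M' : M7} (h : val7 g * M = M' * val7 g) : fixW M = fixW M' := by
  unfold fixW
  refine Fintype.sum_equiv ⟨fun v => val7 g *ᵥ v, fun v => val7 g⁻¹ *ᵥ v,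
    fun v => by simp only [mulVec_mulVec, val7_inv_mul, one_mulVec],
    fun v => by simp only [mulVec_mulVec, val7_mul_inv, one_mulVec]⟩ _ _ fun v => ?_
  simp only [Equiv.coe_fn_mk]
  have hq : q7 (val7 g *ᵥ v) = q7 v := (mem_O7_iff _).1 g.2 v
  have hiff : M' *ᵥ (val7 g *ᵥ v) = val7 g *ᵥ v ↔ M *ᵥ v = v := by
    rw [mulVec_mulVec, ← h, ← mulVec_mulVec]
    exact ⟨fun e => by simpa [mulVec_mulVec, ← mul_assoc, val7_inv_mul] using congrArg (val7 g⁻¹ *ᵥ ·) e,
      fun e => by rw [e]⟩
  simp only [hq, hiff]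

theorem fixW_sq {M : M7} (h3 : M * M * M = 1) : fixW (M * M) = fixW M := by
  unfold fixW
  refine Finset.sum_congr rfl fun v _ => ?_
  have hiff : (M * M) *ᵥ v = v ↔ M *ᵥ v = v := by
    refine ⟨fun e => ?_, fun e => by rw [← mulVec_mulVec, e, e]⟩
    calc M *ᵥ v = M *ᵥ ((M * M) *ᵥ v) := by rw [e]
      _ = v := by rw [mulVec_mulVec, ← mul_assoc, h3, one_mulVec]
  simp only [hiff]

theorem fixW_repMat :
    fixW (repMat 0) = 423 ∧ fixW (repMat 1) = 513 ∧ fixW (repMat 2) = 387 ∧ fixW (repMat 3) = 9 ∧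
      fixW (repMat 4) = 81 ∧ fixW (repMat 5) = 27 := by
  decide +kernel

theorem fixW_repMat_six : fixW (repMat 6) = 27 := by
  rw [← fixW_eq_of_conj (g := tElt) (M := repMat 5)
    (by rw [val_tElt, ← repMat_five_six.1, mul_assoc (tMat * repMat 5), repMat_five_six.2.2, mul_one])]
  exact fixW_repMat.2.2.2.2.2

/-- Matrices of the stabiliser of the singular subspace acting trivially on the sections. -/
def Shape (M : M7) : Prop := ∀ p : Fin 7 × Fin 7,
  M p.1 p.2 = if p.1.val < 3 ∧ 3 ≤ p.2.val then M p.1 p.2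
    else if p.1.val = 3 ∧ 4 ≤ p.2.val then M (Fin.rev p.2) 3 else (1 : M7) p.1 p.2

instance instDecidableShape (M : M7) : Decidable (Shape M) := by unfold Shape; infer_instance

/-- The orientation of the radical part. -/
def orient (b : Fin 3 → ZMod 3) (C : Matrix (Fin 3) (Fin 3) (ZMod 3)) : ZMod 3 :=
  b 0 * (C 1 2 - C 2 1) + b 1 * (C 2 0 - C 0 2) + b 2 * (C 0 1 - C 1 0)

theorem orient_transform (A C : Matrix (Fin 3) (Fin 3) (ZMod 3)) (b p : Fin 3 → ZMod 3) :
    orient (A *ᵥ b) (A * C * Aᵀ + vecMulVec p (A *ᵥ b) - vecMulVec (A *ᵥ b) p) = A.det * orient b C := by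
  simp only [orient, Matrix.add_apply, Matrix.sub_apply, vecMulVec_apply, Matrix.mul_apply, Fin.sum_univ_three,
    mulVec, dotProduct, transpose_apply, det_fin_three]
  ring

/-- The middle column on the singular subspace. -/
def midCol (M : M7) (i : Fin 3) : ZMod 3 := M (Fin.castLE (by norm_num) i) 3

/-- The block pairing the two singular subspaces. -/
def pairBlock (M : M7) : Matrix (Fin 3) (Fin 3) (ZMod 3) :=
  Matrix.of fun i j => M (Fin.castLE (by norm_num) i) (Fin.rev (Fin.castLE (by norm_num) j))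

theorem orient_eq_of_conj {w : O7} (hw : w ∈ W7) {M M' : M7} (hM : Shape M) (hM' : Shape M')
    (hfix : ∀ v : Fin 7 → ZMod 3, M' *ᵥ v = v → ∀ i : Fin 7, 3 ≤ i.val → v i = 0)
    (hconj : val7 w * M = M' * val7 w) :
    orient (midCol M') (pairBlock M') = orient (midCol M) (pairBlock M) := by
  have hlow : ∀ i k : Fin 7, 3 ≤ i.val → k.val < 3 → val7 w i k = 0 := by
    intro i k hi hk
    have hMk : M *ᵥ Pi.single k 1 = Pi.single k 1 := by
      ext a
      rw [mulVec_single_one]
      have := hM (a, k)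
      simp only [if_neg (show ¬ (a.val < 3 ∧ 3 ≤ k.val) by omega), if_neg (show ¬ (a.val = 3 ∧ 4 ≤ k.val) by omega)]
        at this
      rw [Matrix.col_apply, this]
      simp [Matrix.one_apply, Pi.single_apply]
    have := hfix (val7 w *ᵥ Pi.single k 1) (by rw [mulVec_mulVec, ← hconj, ← mulVec_mulVec, hMk]) i hi
    simpa [mulVec_single_one] using this
  obtain ⟨A, hA, h, hwh, hcol, hrow, he⟩ := stabiliser_facts hw hlow
  -- the middle row of the triangular factor
  have hmid : ∀ j : Fin 3, val7 h 3 (Fin.rev (Fin.castLE (by norm_num) j)) = midCol (val7 h) j := by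
    intro j
    have hg := congrFun (congrFun (val7_mem h) 3) (Fin.rev (Fin.castLE (by norm_num) j))
    fin_cases j <;>
      simp [Matrix.mul_apply, Fin.sum_univ_seven, G7, hrow 4, hrow 5, hrow 6, he, midCol] at hg ⊢ <;>
      (revert hg; generalize val7 h 0 3 = a; generalize val7 h 1 3 = b; generalize val7 h 2 3 = c
       first
        | (generalize val7 h 3 6 = d; revert a b c d; decide)
        | (generalize val7 h 3 5 = d; revert a b c d; decide)
        | (generalize val7 h 3 4 = d; revert a b c d; decide))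
  set p := midCol (val7 h) with hp
  set b := midCol M with hb
  set b' := midCol M' with hb'
  set C := pairBlock M with hC
  set C' := pairBlock M' with hC'
  set R := pairBlock (val7 h) with hR
  set B : Matrix (Fin 3) (Fin 3) (ZMod 3) := ((A⁻¹ : GL (Fin 3) (ZMod 3)) : Matrix (Fin 3) (Fin 3) (ZMod 3))
  have hval : val7 w = levMat (A : Matrix (Fin 3) (Fin 3) (ZMod 3)) B * val7 h := by
    rw [hwh, map_mul, val_lev]
  -- both sides as block matrices
  have hblock : ∀ {X : M7} (q : Fin 3 → ZMod 3) (S : Matrix (Fin 3) (Fin 3) (ZMod 3)),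
      midCol X = q → pairBlock X = S →
      (∀ i k : Fin 7, k.val < 3 → X i k = (1 : M7) i k) → (∀ i k : Fin 7, 4 ≤ i.val → X i k = (1 : M7) i k) →
      X 3 3 = 1 → (∀ j : Fin 3, X 3 (Fin.rev (Fin.castLE (by norm_num) j)) = q j) →
      X = !![1, 0, 0, q 0, S 0 2, S 0 1, S 0 0;
             0, 1, 0, q 1, S 1 2, S 1 1, S 1 0;
             0, 0, 1, q 2, S 2 2, S 2 1, S 2 0;
             0, 0, 0, 1, q 2, q 1, q 0;
             0, 0, 0, 0, 1, 0, 0;
             0, 0, 0, 0, 0, 1, 0;
             0, 0, 0, 0, 0, 0, 1] := by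
    intro X q S hq hS hc hr h33 hm
    subst hq hS
    have m0 := hm 0
    have m1 := hm 1
    have m2 := hm 2
    ext i k
    fin_cases i <;> fin_cases k <;>
      first
        | (simp [hc]; done)
        | (simp [hr]; done)
        | (simp [h33]; done)
        | exact m0
        | exact m1
        | exact m2
        | rfl
  have hMb : ∀ {X : M7}, Shape X → (∀ i k : Fin 7, k.val < 3 → X i k = (1 : M7) i k) ∧
      (∀ i k : Fin 7, 4 ≤ i.val → X i k = (1 : M7) i k) ∧ X 3 3 = 1 ∧
      ∀ j : Fin 3, X 3 (Fin.rev (Fin.castLE (by norm_num) j)) = midCol X j := by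
    intro X hX
    refine ⟨fun i k hk => ?_, fun i k hi => ?_, ?_, fun j => ?_⟩
    · rw [hX (i, k), if_neg (by simp; omega), if_neg (by simp; omega)]
    · rw [hX (i, k), if_neg (by simp; omega), if_neg (by simp; omega)]
    · rw [hX (3, 3)]; simp
    · rw [hX (3, Fin.rev (Fin.castLE (by norm_num) j)), if_neg (by simp), if_pos (by simp [Fin.val_rev]; omega),
        Fin.rev_rev]
      rfl
  obtain ⟨m1, m2, m3, m4⟩ := hMb hM
  obtain ⟨n1, n2, n3, n4⟩ := hMb hM'
  have eM := hblock b C rfl rfl m1 m2 m3 m4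
  have eM' := hblock b' C' rfl rfl n1 n2 n3 n4
  have eh := hblock p R rfl rfl hcol hrow he hmid
  rw [hval] at hconj
  rw [eM, eM', eh] at hconj
  -- compare the entries
  have hb'' : b' = (A : Matrix (Fin 3) (Fin 3) (ZMod 3)) *ᵥ b := by
    ext i
    have := congrFun (congrFun hconj (Fin.castLE (by norm_num) i)) 3
    fin_cases i <;>
      simp [Matrix.mul_apply, Fin.sum_univ_seven, levMat, mulVec, dotProduct, Fin.sum_univ_three] at this ⊢ <;>
      linear_combination -this
  have hC'' : C' * Bᵀ = (A : Matrix (Fin 3) (Fin 3) (ZMod 3)) * C +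
      vecMulVec ((A : Matrix (Fin 3) (Fin 3) (ZMod 3)) *ᵥ p) b - vecMulVec b' p := by
    ext i j
    have := congrFun (congrFun hconj (Fin.castLE (by norm_num) i)) (Fin.rev (Fin.castLE (by norm_num) j))
    fin_cases i <;> fin_cases j <;>
      simp [Matrix.mul_apply, Fin.sum_univ_seven, levMat, mulVec, dotProduct, Fin.sum_univ_three,
        vecMulVec_apply] at this ⊢ <;>
      linear_combination -this
  have hBA : Bᵀ * (A : Matrix (Fin 3) (Fin 3) (ZMod 3))ᵀ = 1 := by
    rw [← transpose_mul, A.mul_inv, transpose_one]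
  have hC3 : C' = (A : Matrix (Fin 3) (Fin 3) (ZMod 3)) * C * (A : Matrix (Fin 3) (Fin 3) (ZMod 3))ᵀ +
      vecMulVec ((A : Matrix (Fin 3) (Fin 3) (ZMod 3)) *ᵥ p) b' - vecMulVec b' ((A : Matrix (Fin 3) (Fin 3) (ZMod 3)) *ᵥ p) := by
    calc C' = C' * Bᵀ * (A : Matrix (Fin 3) (Fin 3) (ZMod 3))ᵀ := by rw [mul_assoc, hBA, mul_one]
      _ = _ := by
          rw [hC'', Matrix.sub_mul, Matrix.add_mul, vecMulVec_mul, vecMulVec_mul, vecMul_transpose, vecMul_transpose, ← hb'']
  rw [hC3, hb'', orient_transform, hA, one_mul]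

theorem repMat_split : Shape (repMat 5) ∧ Shape (repMat 6) ∧ Shape (repMat 6 * repMat 6) ∧
    orient (midCol (repMat 5)) (pairBlock (repMat 5)) ≠ orient (midCol (repMat 6)) (pairBlock (repMat 6)) ∧
    orient (midCol (repMat 6 * repMat 6)) (pairBlock (repMat 6 * repMat 6)) =
      orient (midCol (repMat 6)) (pairBlock (repMat 6)) := by
  decide +kernel

theorem repMat_six_fix : ∀ v : Fin 7 → ZMod 3, repMat 6 *ᵥ v = v → ∀ i : Fin 7, 3 ≤ i.val → v i = 0 := by
  decide +kernel

theorem not_conj_five_six {w : O7} (hw : w ∈ W7) :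
    w * repElt 5 ≠ repElt 6 * w ∧ w * repElt 5 ≠ repElt 6 ^ 2 * w := by
  obtain ⟨h5, h6, h66, hne, heq⟩ := repMat_split
  constructor <;> intro h <;> have h' := congrArg val7 h <;>
    simp only [map_mul, map_pow, val_repElt, pow_two] at h'
  · exact hne (orient_eq_of_conj hw h5 h6 repMat_six_fix h').symm
  · refine hne ((orient_eq_of_conj hw h5 h66 (fun v hv => repMat_six_fix v ?_) h').symm.trans heq)
    calc repMat 6 *ᵥ v = repMat 6 *ᵥ ((repMat 6 * repMat 6) *ᵥ v) := by rw [hv]
      _ = v := by rw [mulVec_mulVec, ← mul_assoc, (repMat_facts 6).2.1, one_mulVec]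

/-- The seven representatives generate pairwise non-conjugate subgroups. -/
theorem eq_of_conj {w : O7} (hw : w ∈ W7) {i j : Fin 7}
    (h : w * repElt i = repElt j * w ∨ w * repElt i = repElt j ^ 2 * w) : i = j := by
  have hfw : fixW (repMat i) = fixW (repMat j) := by
    rcases h with h | h <;> have h' := congrArg val7 h <;>
      simp only [map_mul, map_pow, val_repElt, pow_two] at h'
    · exact fixW_eq_of_conj h'
    · rw [fixW_eq_of_conj h', fixW_sq (repMat_facts j).2.1]
  obtain ⟨f0, f1, f2, f3, f4, f5⟩ := fixW_repMat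
  have f6 := fixW_repMat_six
  have hval : ∀ k : Fin 7, fixW (repMat k) = [423, 513, 387, 9, 81, 27, 27].getD k.val 0 := by
    intro k
    fin_cases k
    exacts [f0, f1, f2, f3, f4, f5, f6]
  rw [hval, hval] at hfw
  have hcases : ∀ i j : Fin 7, [423, 513, 387, 9, 81, 27, 27].getD i.val 0 =
      [423, 513, 387, 9, 81, 27, 27].getD j.val 0 → i = j ∨ (i = 5 ∧ j = 6) ∨ (i = 6 ∧ j = 5) := by
    decide +kernel
  have hcase := hcases i j hfw
  rcases hcase with hij | ⟨rfl, rfl⟩ | ⟨rfl, rfl⟩
  · exact hij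
  · rcases h with h | h
    · exact absurd h (not_conj_five_six hw).1
    · exact absurd h (not_conj_five_six hw).2
  · have hinv := inv_mem hw
    exfalso
    rcases h with h | h
    · refine (not_conj_five_six hinv).1 ?_
      calc w⁻¹ * repElt 5 = w⁻¹ * (repElt 5 * w) * w⁻¹ := by group
        _ = _ := by rw [← h]; group
    · refine (not_conj_five_six hinv).2 ?_
      have hs : (repElt 5 ^ 2) ^ 2 = repElt 5 := by
        rw [← pow_mul, show 2 * 2 = 3 + 1 by norm_num, pow_add, repElt_cube, one_mul, pow_one]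
      have h1 : w * repElt 6 * w⁻¹ = repElt 5 ^ 2 := by rw [h, mul_inv_cancel_right]
      have h2 : w * repElt 6 ^ 2 * w⁻¹ = repElt 5 := by rw [← conj_pow, h1, hs]
      calc w⁻¹ * repElt 5 = w⁻¹ * (w * repElt 6 ^ 2 * w⁻¹) := by rw [h2]
        _ = repElt 6 ^ 2 * w⁻¹ := by group

end CfsgLib.SmallGroups.Omega7Three
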