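import Cfsg.Agent.Lib.SmallGroups.Omega7Three.Cert0
import Cfsg.Agent.Lib.SmallGroups.Omega7Three.Cert1
import Cfsg.Agent.Lib.SmallGroups.Omega7Three.Cert2
import Cfsg.Agent.Lib.SmallGroups.Omega7Three.Cert3
import Cfsg.Agent.Lib.SmallGroups.Omega7Three.Cert4

/-!
Every element of order three of the orthogonal group is conjugate under the commutator subgroup
to one of seven representatives.
-/

set_option autoImplicit false

namespace CfsgLib.SmallGroups.Omega7Three

open Matrix

theorem repMat_facts : ∀ k : Fin 7, (repMat k)ᵀ * G7 * repMat k = G7 ∧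
    repMat k * repMat k * repMat k = 1 ∧ repMat k ≠ 1 := by
  decide +kernel

/-- The representatives. -/
noncomputable def repElt (k : Fin 7) : O7 := (exists_of_gram (repMat_facts k).1).choose

theorem val_repElt (k : Fin 7) : val7 (repElt k) = repMat k := (exists_of_gram (repMat_facts k).1).choose_spec

theorem repElt_cube (k : Fin 7) : repElt k ^ 3 = 1 := val7_injective (by
  rw [map_pow, map_one, val_repElt, pow_succ, pow_two]; exact (repMat_facts k).2.1)

theorem repElt_ne_one (k : Fin 7) : repElt k ≠ 1 := fun h => (repMat_facts k).2.2 (by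
  rw [← val_repElt, h, map_one])

theorem repElt_mem (k : Fin 7) : repElt k ∈ W7 :=
  mem_W7_of_pow_three (k := 1) (by rw [pow_one]; exact repElt_cube k)

theorem orderOf_repElt (k : Fin 7) : orderOf (repElt k) = 3 :=
  orderOf_eq_prime (repElt_cube k) (repElt_ne_one k)

/-- The reducing triangular matrices. -/
def borelMat (j : Fin 14) : M7 := matOf (borelData.getD j.val [])

theorem borelMat_facts : ∀ j : Fin 14, (borelMat j)ᵀ * G7 * borelMat j = G7 ∧ Tri (borelMat j) := by
  decide +kernel

/-- The remaining Levi factors. -/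
def leviReps : List T3 := [(0, 0, 0), (1, 0, 0), (0, 0, 1), (0, 1, 0), (1, 0, 1)]

theorem exists_borel : ∀ a : T3, ∃ j : Fin 14, ∃ b ∈ leviReps,
    top3 (borelMat j) * top3 (aMat a) = top3 (aMat b) * top3 (borelMat j) := by
  decide +kernel

theorem covered_of_mem_U7 {u : O7} (hu : u ∈ U7) (h3 : u ^ 3 = 1) (h1 : u ≠ 1) :
    ∃ k : Fin 7, ∃ g : O7, g * u = repElt k * g := by
  obtain ⟨⟨a, q, s⟩, hp⟩ := param_surjective ⟨u, hu⟩
  have hu' : val7 u = aMat a * nMat q * zMat s := by
    rw [← val_param (a, q, s), hp]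
  obtain ⟨j, b, hb, hjb⟩ := exists_borel a
  obtain ⟨h, hh⟩ := exists_of_gram (borelMat_facts j).1
  have hT : Tri (val7 h) := hh ▸ (borelMat_facts j).2
  have hT' := tri_inv hT
  have hx : h * u * h⁻¹ ∈ U7 := by
    have hu2 := mem_U7.1 hu
    refine mem_U7.2 ⟨?_, fun i => ?_⟩
    · rw [map_mul, map_mul]; exact (hT.mul hu2.1).mul hT'
    · rw [map_mul, map_mul, (hT.mul hu2.1).diag_mul hT', hT.diag_mul hu2.1, hu2.2, mul_one,
        ← hT.diag_mul hT', ← map_mul, mul_inv_cancel, map_one, Matrix.one_apply_eq]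
  obtain ⟨⟨a', q', s'⟩, hp'⟩ := param_surjective ⟨_, hx⟩
  have hx' : val7 (h * u * h⁻¹) = aMat a' * nMat q' * zMat s' := by
    rw [← val_param (a', q', s'), hp']
  obtain rfl : a' = b := by
    refine top3_aMat_injective ?_
    have hinv : top3 (val7 h) * top3 (val7 h⁻¹) = 1 := by
      rw [← top3_mul hT'.low, ← map_mul, mul_inv_cancel, map_one]
      decide +kernel
    rw [← top3_factors a' q' s', ← hx', map_mul, map_mul, top3_mul hT'.low,
      top3_mul (mem_U7.1 hu).1.low, hu', top3_factors, hh, hjb, mul_assoc, ← hh, hinv, mul_one]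
  have hx3 : (h * u * h⁻¹) ^ 3 = 1 := by rw [conj_pow, h3]; simp
  have hM3 : (aMat a' * nMat q' * zMat s') ^ 3 = 1 := by rw [← hx', ← map_pow, hx3, map_one]
  have key : aMat a' * nMat q' * zMat s' = 1 ∨ Covered (aMat a' * nMat q' * zMat s') := by
    simp only [leviReps, List.mem_cons, List.not_mem_nil, or_false] at hb
    rcases hb with rfl | rfl | rfl | rfl | rfl
    · exact covered_of_checkLevi checkLevi0 q' s' hM3
    · exact covered_of_checkLevi checkLevi1 q' s' hM3
    · exact covered_of_checkLevi checkLevi2 q' s' hM3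
    · exact covered_of_checkLevi checkLevi3 q' s' hM3
    · exact covered_of_checkLevi checkLevi4 q' s' hM3
  rcases key with key | ⟨k, g, hg⟩
  · refine absurd ?_ h1
    have : h * u * h⁻¹ = 1 := val7_injective (by rw [hx', key, map_one])
    simpa using this
  · refine ⟨k, g * h, ?_⟩
    have e : g * (h * u * h⁻¹) = repElt k * g := val7_injective (by
      rw [map_mul, hx', hg, map_mul, val_repElt])
    calc g * h * u = g * (h * u * h⁻¹) * h := by group
      _ = repElt k * g * h := by rw [e]
      _ = repElt k * (g * h) := mul_assoc _ _ _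

theorem rootData_facts : ∀ i : Fin 6, (matOf (rootData.getD i.val []))ᵀ * G7 * matOf (rootData.getD i.val []) = G7 ∧
    matOf (rootData.getD i.val []) * matOf (rootData.getD i.val []) * matOf (rootData.getD i.val []) = 1 := by
  decide +kernel

/-- The matrix of a letter. -/
def letterMat (i : ℕ) : M7 := if i < 6 then matOf (rootData.getD i []) else tMat

theorem exists_letter (i : ℕ) : ∃ g : O7, val7 g = letterMat i ∧ g * (if i < 6 then 1 else tElt)⁻¹ ∈ W7 := by
  by_cases hi : i < 6
  · obtain ⟨g, hg⟩ := exists_of_gram (rootData_facts ⟨i, hi⟩).1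
    refine ⟨g, by rw [hg, letterMat, if_pos hi], ?_⟩
    rw [if_pos hi, inv_one, mul_one]
    refine mem_W7_of_pow_three (k := 1) (val7_injective ?_)
    rw [pow_one, map_pow, map_one, hg, pow_succ, pow_two]
    exact (rootData_facts ⟨i, hi⟩).2
  · exact ⟨tElt, by rw [val_tElt, letterMat, if_neg hi], by rw [if_neg hi, mul_inv_cancel]; exact one_mem _⟩

/-- The word of a centralising element. -/
def centWord (k : Fin 5) : List ℕ := (centData.getD k.val ([], [])).2

theorem centWord_facts : ∀ k : Fin 5, ((centWord k).filter (fun i => decide (6 ≤ i))).length = 1 ∧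
    ((centWord k).map letterMat).prod * repMat ⟨k.val, by omega⟩ =
      repMat ⟨k.val, by omega⟩ * ((centWord k).map letterMat).prod := by
  decide +kernel

theorem repMat_five_six : tMat * repMat 5 * tMat = repMat 6 ∧ tMat * repMat 6 * tMat = repMat 5 ∧
    tMat * tMat = 1 := by
  decide +kernel

theorem tElt_inv : tElt⁻¹ = tElt :=
  inv_eq_of_mul_eq_one_right (val7_injective (by rw [map_mul, map_one, val_tElt]; exact repMat_five_six.2.2))

theorem exists_twist (k : Fin 7) : ∃ w ∈ W7, ∃ k' : Fin 7, w * (tElt⁻¹ * repElt k * tElt) * w⁻¹ = repElt k' := by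
  by_cases hk : k.val < 5
  · choose letter hlm hlq using exists_letter
    let π : O7 →* O7 ⧸ W7 := QuotientGroup.mk' W7
    set d : O7 := ((centWord ⟨k.val, hk⟩).map letter).prod with hd
    obtain ⟨hlen, hcomm⟩ := centWord_facts ⟨k.val, hk⟩
    have hπ : ∀ l : List ℕ, π ((l.map letter).prod) = π tElt ^ (l.filter (fun i => decide (6 ≤ i))).length := by
      intro l
      induction l with
      | nil => simp
      | cons i l ih =>
        have e : π (letter i) = π (if i < 6 then 1 else tElt) := by
          refine ((QuotientGroup.eq).2 ?_).symm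
          exact (Subgroup.Normal.mem_comm_iff inferInstance).1 (hlq i)
        rw [List.map_cons, List.prod_cons, map_mul, ih, e]
        by_cases hi : i < 6
        · simp [hi, Nat.not_le.2 hi]
        · simp [hi, Nat.le_of_not_lt hi, pow_succ']
    have hdt : tElt⁻¹ * d ∈ W7 := by
      have := hπ (centWord ⟨k.val, hk⟩)
      rw [hlen, pow_one] at this
      exact QuotientGroup.eq.1 this.symm
    have hdr : d * repElt k = repElt k * d := val7_injective (by
      rw [map_mul, map_mul, hd, map_list_prod, List.map_map, show (⇑val7 ∘ letter) = letterMat from funext hlm,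
        val_repElt]
      exact hcomm)
    refine ⟨(tElt⁻¹ * d)⁻¹, inv_mem hdt, k, ?_⟩
    calc (tElt⁻¹ * d)⁻¹ * (tElt⁻¹ * repElt k * tElt) * (tElt⁻¹ * d)⁻¹⁻¹
        = d⁻¹ * (repElt k * d) := by group
      _ = repElt k := by rw [← hdr, inv_mul_cancel_left]
  · refine ⟨1, one_mem _, if k = 5 then 6 else 5, val7_injective ?_⟩
    rw [one_mul, inv_one, mul_one, tElt_inv, map_mul, map_mul, val_tElt, val_repElt, val_repElt]
    rcases (show k = 5 ∨ k = 6 by omega) with rfl | rfl
    · exact repMat_five_six.1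
    · exact repMat_five_six.2.1

theorem exists_conj_rep {x : O7} (h3 : x ^ 3 = 1) (h1 : x ≠ 1) :
    ∃ w ∈ W7, ∃ k : Fin 7, w * x * w⁻¹ = repElt k := by
  obtain ⟨g₀, hg₀⟩ := exists_conj_mem_U7 h3
  obtain ⟨k, g₁, hg₁⟩ := covered_of_mem_U7 hg₀ (by rw [conj_pow, h3]; simp) (fun h => h1 (by simpa using h))
  set g := g₁ * g₀ with hg
  have hgx : g * x * g⁻¹ = repElt k := by
    calc g * x * g⁻¹ = g₁ * (g₀ * x * g₀⁻¹) * g₁⁻¹ := by rw [hg]; group
      _ = repElt k := by rw [hg₁]; group
  obtain ⟨a, ha⟩ := exists_coset g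
  have e : (cosetRep a)⁻¹ * g * x * ((cosetRep a)⁻¹ * g)⁻¹ = (cosetRep a)⁻¹ * repElt k * cosetRep a := by
    rw [← hgx]; group
  have hc : (cosetRep a)⁻¹ * repElt k * cosetRep a = repElt k ∨
      (cosetRep a)⁻¹ * repElt k * cosetRep a = tElt⁻¹ * repElt k * tElt := by
    have hn : ∀ y : O7, negElt⁻¹ * y * negElt = y := fun y => by
      rw [mul_assoc, ← negElt_central, inv_mul_cancel_left]
    fin_cases a
    · exact Or.inl (by simp [cosetRep])
    · exact Or.inr (by simp [cosetRep])
    · exact Or.inl (by simpa [cosetRep] using hn _)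
    · refine Or.inr ?_
      simp only [cosetRep]
      change (negElt * tElt)⁻¹ * repElt k * (negElt * tElt) = _
      calc (negElt * tElt)⁻¹ * repElt k * (negElt * tElt)
          = tElt⁻¹ * (negElt⁻¹ * repElt k * negElt) * tElt := by group
        _ = _ := by rw [hn]
  rcases hc with hc | hc
  · exact ⟨_, ha, k, e.trans hc⟩
  · obtain ⟨w, hw, k', hk'⟩ := exists_twist k
    refine ⟨w * ((cosetRep a)⁻¹ * g), mul_mem hw ha, k', ?_⟩
    rw [← hk', ← hc, ← e]
    group

end CfsgLib.SmallGroups.Omega7Three
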