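import Cfsg.Agent.Lib.SmallGroups.Omega7Three.Distinct

/-!
The simple orthogonal group in seven variables over the field with three elements has seven
classes of subgroups of order three.
-/

set_option autoImplicit false

namespace CfsgLib.SmallGroups.Omega7Three

open CfsgLib.Classical

theorem eq_of_mem_zpowers {G : Type*} [Group G] [Finite G] {r y : G} (hr : orderOf r = 3) (hy : orderOf y = 3)
    (h : y ∈ Subgroup.zpowers r) : y = r ∨ y = r ^ 2 := by
  rw [← mem_powers_iff_mem_zpowers] at h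
  obtain ⟨n, rfl⟩ := h
  have hn : r ^ n = r ^ (n % 3) := hr ▸ (pow_mod_orderOf r n).symm
  have hlt : n % 3 < 3 := Nat.mod_lt _ (by norm_num)
  obtain h | h | h : n % 3 = 0 ∨ n % 3 = 1 ∨ n % 3 = 2 := by omega
  · simp [hn, h] at hy
  · exact Or.inl (by simp [hn, h])
  · exact Or.inr (by simp [hn, h])

/-- The transfer to any group isomorphic to the commutator subgroup of the matrix group. -/
theorem seven_classes {G : Type*} [Group G] [Finite G] (ψ : G ≃* W7) :
    ∃ Y : Fin 7 → Subgroup G, (∀ i, Nat.card (Y i) = 3) ∧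
      (∀ i j, (∃ g : G, (Y i).map (MulAut.conj g).toMonoidHom = Y j) → i = j) ∧
      (∀ X : Subgroup G, Nat.card X = 3 → ∃ i, ∃ g : G, X.map (MulAut.conj g).toMonoidHom = Y i) := by
  let R : Fin 7 → G := fun k => ψ.symm ⟨repElt k, repElt_mem k⟩
  have hRv : ∀ k, ((ψ (R k) : W7) : O7) = repElt k := fun k =>
    congrArg Subtype.val (ψ.apply_symm_apply ⟨repElt k, repElt_mem k⟩)
  have hR : ∀ k, orderOf (R k) = 3 := fun k => by
    rw [← orderOf_injective ψ.toMonoidHom ψ.injective, ← Subgroup.orderOf_coe]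
    exact (congrArg orderOf (hRv k)).trans (orderOf_repElt k)
  refine ⟨fun k => Subgroup.zpowers (R k), fun k => (Nat.card_zpowers _).trans (hR k), ?_, ?_⟩
  · rintro i j ⟨g, hg⟩
    rw [MonoidHom.map_zpowers] at hg
    change Subgroup.zpowers (g * R i * g⁻¹) = Subgroup.zpowers (R j) at hg
    have hmem : g * R i * g⁻¹ ∈ Subgroup.zpowers (R j) := by
      rw [← hg]
      exact Subgroup.mem_zpowers _
    have hord : orderOf (g * R i * g⁻¹) = 3 := by
      rw [← Nat.card_zpowers, hg, Nat.card_zpowers, hR]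
    refine eq_of_conj (w := (ψ g : W7)) (ψ g).2 ?_
    rcases eq_of_mem_zpowers (hR j) hord hmem with h | h
    · left
      have := congrArg (fun x => ((ψ x : W7) : O7)) h
      simp only [map_mul, map_inv, Subgroup.coe_mul, Subgroup.coe_inv, hRv] at this
      rw [← this, inv_mul_cancel_right]
    · right
      have := congrArg (fun x => ((ψ x : W7) : O7)) h
      simp only [map_mul, map_inv, map_pow, Subgroup.coe_mul, Subgroup.coe_inv, Subgroup.coe_pow, hRv] at this
      rw [← this, inv_mul_cancel_right]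
  · intro X hX
    obtain ⟨x, hxX, hx1⟩ := (X.bot_or_exists_ne_one).resolve_left (fun h => by
      rw [h, Subgroup.card_bot] at hX; exact absurd hX (by norm_num))
    have hxo : orderOf x = 3 := by
      have h1 : orderOf (⟨x, hxX⟩ : X) ∣ 3 := hX ▸ orderOf_dvd_natCard _
      rw [← Subgroup.orderOf_coe] at h1
      exact ((Nat.dvd_prime Nat.prime_three).1 h1).resolve_left (mt orderOf_eq_one_iff.1 hx1)
    have hXeq : Subgroup.zpowers x = X :=
      Subgroup.eq_of_le_of_card_ge (Subgroup.zpowers_le.2 hxX) (by rw [hX, Nat.card_zpowers, hxo])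
    have hy3 : ((ψ x : W7) : O7) ^ 3 = 1 := by
      rw [← Subgroup.coe_pow, ← map_pow, orderOf_dvd_iff_pow_eq_one.1 hxo.dvd, map_one, Subgroup.coe_one]
    obtain ⟨w, hw, k, hk⟩ := exists_conj_rep hy3 (fun h => hx1 (ψ.injective (by
      rw [map_one]; exact Subtype.ext h)))
    refine ⟨k, ψ.symm ⟨w, hw⟩, ?_⟩
    rw [← hXeq, MonoidHom.map_zpowers]
    congr 1
    change ψ.symm ⟨w, hw⟩ * x * (ψ.symm ⟨w, hw⟩)⁻¹ = R k
    refine ψ.injective (Subtype.ext ?_)
    simp only [map_mul, map_inv, MulEquiv.apply_symm_apply, Subgroup.coe_mul, Subgroup.coe_inv, hRv, hk]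

theorem exists_pomega_equiv :
    Nonempty (Cfsg.POmega (ZMod 3) (Cfsg.quadFormOdd 3 (ZMod 3)) ≃* W7) := by
  rw [← coe_qOdd]
  obtain ⟨φ, -⟩ := exists_model
  have hc := center_Omega_qOdd (F := ZMod 3) (m := 3) le_rfl (by decide)
  exact ⟨((QuotientGroup.quotientMulEquivOfEq hc).trans QuotientGroup.quotientBot).trans
    ((φ.subgroupMap _).trans (MulEquiv.subgroupCongr (map_commutator_equiv φ)))⟩

end CfsgLib.SmallGroups.Omega7Three
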