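import Cfsg.Agent.Lib.SmallGroups.Omega7Three.Group

/-!
The unitriangular subgroup of the orthogonal group: it is a Sylow 3-subgroup, parametrised by
three unipotent factors.
-/

set_option autoImplicit false

namespace CfsgLib.SmallGroups.Omega7Three

open Matrix

/-- Triples of scalars. -/
abbrev T3 : Type := ZMod 3 × ZMod 3 × ZMod 3

/-- The Levi factor. -/
def aMat (a : T3) : M7 :=
  !![1, a.1, a.2.1, 0, 0, 0, 0;
     0, 1, a.2.2, 0, 0, 0, 0;
     0, 0, 1, 0, 0, 0, 0;
     0, 0, 0, 1, 0, 0, 0;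
     0, 0, 0, 0, 1, -a.2.2, a.1 * a.2.2 - a.2.1;
     0, 0, 0, 0, 0, 1, -a.1;
     0, 0, 0, 0, 0, 0, 1]

/-- The middle factor. -/
def nMat (q : T3) : M7 :=
  !![1, 0, 0, q.1, 2 * q.1 * q.2.2, 2 * q.1 * q.2.1, 2 * q.1 * q.1;
     0, 1, 0, q.2.1, 2 * q.2.1 * q.2.2, 2 * q.2.1 * q.2.1, 2 * q.2.1 * q.1;
     0, 0, 1, q.2.2, 2 * q.2.2 * q.2.2, 2 * q.2.2 * q.2.1, 2 * q.2.2 * q.1;
     0, 0, 0, 1, q.2.2, q.2.1, q.1;
     0, 0, 0, 0, 1, 0, 0;
     0, 0, 0, 0, 0, 1, 0;
     0, 0, 0, 0, 0, 0, 1]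

/-- The alternating factor. -/
def zMat (s : T3) : M7 :=
  !![1, 0, 0, 0, s.2.1, s.1, 0;
     0, 1, 0, 0, s.2.2, 0, -s.1;
     0, 0, 1, 0, 0, -s.2.2, -s.2.1;
     0, 0, 0, 1, 0, 0, 0;
     0, 0, 0, 0, 1, 0, 0;
     0, 0, 0, 0, 0, 1, 0;
     0, 0, 0, 0, 0, 0, 1]

/-- Upper triangular matrices. -/
def Tri (M : M7) : Prop := ∀ i k : Fin 7, k < i → M i k = 0

instance instDecidableTri (M : M7) : Decidable (Tri M) :=
  haveI : ∀ i : Fin 7, Decidable (∀ k : Fin 7, k < i → M i k = 0) := fun _ => inferInstance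
  decidable_of_iff (∀ i : Fin 7, ∀ k : Fin 7, k < i → M i k = 0) Iff.rfl

/-- Upper unitriangular matrices. -/
def Uni (M : M7) : Prop := Tri M ∧ ∀ i, M i i = 1

instance instDecidableUni (M : M7) : Decidable (Uni M) := by unfold Uni; infer_instance

theorem Tri.one : Tri (1 : M7) := fun _ _ h => Matrix.one_apply_ne h.ne'

theorem Tri.mul {X Y : M7} (hX : Tri X) (hY : Tri Y) : Tri (X * Y) := by
  intro i k h
  rw [Matrix.mul_apply]
  refine Finset.sum_eq_zero fun j _ => ?_
  rcases lt_or_ge j i with h' | h'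
  · rw [hX i j h', zero_mul]
  · rw [hY j k (lt_of_lt_of_le h h'), mul_zero]

theorem Tri.diag_mul {X Y : M7} (hX : Tri X) (hY : Tri Y) (i : Fin 7) :
    (X * Y) i i = X i i * Y i i := by
  rw [Matrix.mul_apply, Finset.sum_eq_single i]
  · intro j _ hj
    rcases lt_or_gt_of_ne hj with h' | h'
    · rw [hX i j h', zero_mul]
    · rw [hY j i h', mul_zero]
  · intro h; exact absurd (Finset.mem_univ i) h

theorem Uni.mul {X Y : M7} (hX : Uni X) (hY : Uni Y) : Uni (X * Y) :=
  ⟨hX.1.mul hY.1, fun i => by rw [hX.1.diag_mul hY.1, hX.2, hY.2, one_mul]⟩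

theorem Uni.pow_nine {X : M7} (hX : Uni X) : X ^ 9 = 1 := by
  have hN : ∀ n : ℕ, ∀ i k : Fin 7, k.val < i.val + n → ((X - 1) ^ n) i k = 0 := by
    intro n
    induction n with
    | zero => intro i k h; rw [pow_zero, Matrix.one_apply_ne]; intro e; subst e; omega
    | succ n ih =>
      intro i k h
      rw [pow_succ, Matrix.mul_apply]
      refine Finset.sum_eq_zero fun j _ => ?_
      rcases lt_or_ge j.val (i.val + n) with h' | h'
      · rw [ih i j h', zero_mul]
      · rcases lt_or_eq_of_le (show k ≤ j from Fin.le_def.2 (by omega)) with h'' | h''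
        · rw [Matrix.sub_apply, hX.1 j k h'', Matrix.one_apply_ne h''.ne', sub_zero, mul_zero]
        · subst h''; rw [Matrix.sub_apply, hX.2, Matrix.one_apply_eq, sub_self, mul_zero]
  have h9 : (X - 1) ^ 9 = 0 := Matrix.ext fun i k => hN 9 i k (by omega)
  have hc := add_pow_char_pow_of_commute 3 2 (Commute.one_right (X - 1))
  rw [sub_add_cancel] at hc
  simpa [h9] using hc

theorem tri_inv {g : O7} (hg : Tri (val7 g)) : Tri (val7 g⁻¹) := by
  have hp : ∀ n : ℕ, Tri (val7 g ^ n) := fun n => by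
    induction n with
    | zero => rw [pow_zero]; exact Tri.one
    | succ n ih => rw [pow_succ]; exact ih.mul hg
  have hinv : g⁻¹ = g ^ (orderOf g - 1) := inv_eq_of_mul_eq_one_right (by
    rw [← pow_succ', Nat.sub_add_cancel (orderOf_pos g), pow_orderOf_eq_one])
  rw [hinv, map_pow]
  exact hp _

theorem val7_mul_left_cancel (g : O7) {X Y : M7} (h : val7 g * X = val7 g * Y) : X = Y := by
  simpa [← mul_assoc, ← map_mul] using congrArg (val7 g⁻¹ * ·) h

/-- The unitriangular subgroup. -/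
def U7 : Subgroup O7 where
  carrier := {g | Uni (val7 g)}
  one_mem' := by change Uni (val7 1); rw [map_one]; exact ⟨Tri.one, fun i => Matrix.one_apply_eq i⟩
  mul_mem' {a b} ha hb := by
    change Uni (val7 (a * b))
    rw [map_mul]
    exact Uni.mul ha hb
  inv_mem' {g} hg := by
    have hg' : Uni (val7 g) := hg
    refine ⟨tri_inv hg'.1, fun i => ?_⟩
    have h := (tri_inv hg'.1).diag_mul hg'.1 i
    rw [← map_mul, inv_mul_cancel, map_one, Matrix.one_apply_eq, hg'.2, mul_one] at h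
    exact h.symm

theorem mem_U7 {g : O7} : g ∈ U7 ↔ Uni (val7 g) := Iff.rfl

theorem isPGroup_U7 : IsPGroup 3 U7 := fun g => ⟨2, Subtype.ext (val7_injective (by
  rw [Subgroup.coe_pow, map_pow, Subgroup.coe_one, map_one]
  exact (mem_U7.1 g.2).pow_nine))⟩

theorem factor_facts : ∀ a : T3,
    ((aMat a)ᵀ * G7 * aMat a = G7 ∧ Uni (aMat a)) ∧ ((nMat a)ᵀ * G7 * nMat a = G7 ∧ Uni (nMat a)) ∧
      ((zMat a)ᵀ * G7 * zMat a = G7 ∧ Uni (zMat a)) := by
  decide +kernel

theorem exists_factors (a q s : T3) : ∃ u : U7, val7 (u : O7) = aMat a * nMat q * zMat s := by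
  obtain ⟨u, hu⟩ := exists_of_gram (factor_facts a).1.1
  obtain ⟨v, hv⟩ := exists_of_gram (factor_facts q).2.1.1
  obtain ⟨w, hw⟩ := exists_of_gram (factor_facts s).2.2.1
  refine ⟨⟨u * v * w, mem_U7.2 ?_⟩, by rw [map_mul, map_mul, hu, hv, hw]⟩
  rw [map_mul, map_mul, hu, hv, hw]
  exact ((factor_facts a).1.2.mul (factor_facts q).2.1.2).mul (factor_facts s).2.2.2

/-- The action on the flag's three-dimensional member. -/
def top3 (M : M7) : Matrix (Fin 3) (Fin 3) (ZMod 3) :=
  M.submatrix (Fin.castLE (by norm_num)) (Fin.castLE (by norm_num))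

theorem top3_mul {X Y : M7} (hY : ∀ i k : Fin 7, 3 ≤ i.val → k.val < 3 → Y i k = 0) :
    top3 (X * Y) = top3 X * top3 Y := by
  ext i k
  simp only [top3, submatrix_apply, Matrix.mul_apply, Fin.sum_univ_seven, Fin.sum_univ_three]
  rw [hY 3 _ (by simp) (by simp), hY 4 _ (by simp) (by simp), hY 5 _ (by simp) (by simp),
    hY 6 _ (by simp) (by simp)]
  simp

theorem Tri.low {Y : M7} (hY : Tri Y) : ∀ i k : Fin 7, 3 ≤ i.val → k.val < 3 → Y i k = 0 :=
  fun i k hi hk => hY i k (Fin.lt_def.2 (by omega))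

theorem top3_aMat_eq : ∀ a : T3, top3 (aMat a) = !![1, a.1, a.2.1; 0, 1, a.2.2; 0, 0, 1] := by
  decide +kernel

theorem top3_aMat_injective {a b : T3} (h : top3 (aMat a) = top3 (aMat b)) : a = b := by
  rw [top3_aMat_eq, top3_aMat_eq] at h
  obtain ⟨a1, a2, a3⟩ := a
  obtain ⟨b1, b2, b3⟩ := b
  have h01 := congrFun (congrFun h 0) 1
  have h02 := congrFun (congrFun h 0) 2
  have h12 := congrFun (congrFun h 1) 2
  simp at h01 h02 h12
  simp [h01, h02, h12]

theorem top3_factors (a q s : T3) : top3 (aMat a * nMat q * zMat s) = top3 (aMat a) := by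
  have hq : ∀ t : T3, top3 (nMat t) = 1 ∧ top3 (zMat t) = 1 := by decide +kernel
  rw [top3_mul (factor_facts s).2.2.2.1.low, top3_mul (factor_facts q).2.1.2.1.low, (hq q).1, (hq s).2,
    mul_one, mul_one]

theorem factors_injective :
    Function.Injective fun p : T3 × T3 × T3 => aMat p.1 * nMat p.2.1 * zMat p.2.2 := by
  rintro ⟨a, q, s⟩ ⟨a', q', s'⟩ h
  simp only at h
  obtain rfl : a = a' := top3_aMat_injective (by rw [← top3_factors a q s, h, top3_factors])
  obtain ⟨u, hu⟩ := exists_of_gram (factor_facts a).1.1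
  have h' : nMat q * zMat s = nMat q' * zMat s' := val7_mul_left_cancel u (by
    rw [hu, ← mul_assoc, ← mul_assoc, h])
  have hcol : ∀ (q s : T3), ∀ i : Fin 3, (nMat q * zMat s) (Fin.castLE (by norm_num) i) 3 =
      ![q.1, q.2.1, q.2.2] i := by
    intro q s i
    fin_cases i <;> simp [Matrix.mul_apply, Fin.sum_univ_seven, nMat, zMat]
  have e : ∀ i : Fin 3, ![q.1, q.2.1, q.2.2] i = ![q'.1, q'.2.1, q'.2.2] i := fun i => by
    rw [← hcol q s i, h', hcol]
  obtain rfl : q = q' := Prod.ext (e 0) (Prod.ext (e 1) (e 2))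
  obtain ⟨v, hv⟩ := exists_of_gram (factor_facts q).2.1.1
  have h'' : zMat s = zMat s' := val7_mul_left_cancel v (by rw [hv, h'])
  have e1 := congrFun (congrFun h'' 0) 5
  have e2 := congrFun (congrFun h'' 0) 4
  have e3 := congrFun (congrFun h'' 1) 4
  simp [zMat] at e1 e2 e3
  simp [Prod.ext_iff, e1, e2, e3]

/-- The parametrisation. -/
noncomputable def param (p : T3 × T3 × T3) : U7 := (exists_factors p.1 p.2.1 p.2.2).choose

theorem val_param (p : T3 × T3 × T3) : val7 (param p : O7) = aMat p.1 * nMat p.2.1 * zMat p.2.2 :=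
  (exists_factors p.1 p.2.1 p.2.2).choose_spec

theorem param_injective : Function.Injective param := fun p p' h => factors_injective (by
  simp only [← val_param, h])

theorem card_U7 : Nat.card U7 = 3 ^ 9 := by
  refine le_antisymm ?_ ?_
  · obtain ⟨k, hk⟩ := IsPGroup.iff_card.1 isPGroup_U7
    have hdvd := Subgroup.card_subgroup_dvd_card U7
    rw [hk, card_O7] at hdvd
    have hk9 : k ≤ 9 := by
      by_contra hlt
      exact absurd ((pow_dvd_pow 3 (show 10 ≤ k by omega)).trans hdvd) (by norm_num)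
    rw [hk]
    exact Nat.pow_le_pow_right (by norm_num) hk9
  · have := Nat.card_le_card_of_injective param param_injective
    simpa using this

theorem param_surjective : Function.Surjective param := by
  refine ((Nat.bijective_iff_injective_and_card param).2 ⟨param_injective, ?_⟩).2
  rw [card_U7]
  simp

/-- Every 3-element is conjugate into the unitriangular subgroup. -/
theorem exists_conj_mem_U7 {x : O7} (hx : x ^ 3 = 1) : ∃ g : O7, g * x * g⁻¹ ∈ U7 := by
  have hU : IsPGroup 3 (Subgroup.zpowers x) := by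
    rintro ⟨y, hy⟩
    obtain ⟨n, rfl⟩ := hy
    exact ⟨1, Subtype.ext (by
      simp only [Subgroup.coe_pow, Subgroup.coe_one, pow_one]
      rw [← zpow_natCast, ← _root_.zpow_mul, mul_comm n, _root_.zpow_mul, zpow_natCast, hx, _root_.one_zpow])⟩
  obtain ⟨P, hP⟩ := hU.exists_le_sylow
  have hf : (Nat.card O7).factorization 3 = 9 := by
    rw [card_O7, show 2 * 3 ^ 9 * (8 * 80 * 728) = 3 ^ 9 * (2 * (8 * 80 * 728)) by norm_num,
      Nat.factorization_mul (by norm_num) (by norm_num), Nat.prime_three.factorization_pow]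
    simp [Nat.factorization_eq_zero_of_not_dvd]
  let S : Sylow 3 O7 := Sylow.ofCard U7 (by rw [card_U7, hf])
  obtain ⟨g, hg⟩ := MulAction.exists_smul_eq O7 P S
  refine ⟨g, ?_⟩
  have hxP : x ∈ (P : Subgroup O7) := hP (Subgroup.mem_zpowers x)
  have hmem : g * x * g⁻¹ ∈ ((g • P : Sylow 3 O7) : Subgroup O7) := by
    rw [Sylow.coe_subgroup_smul]
    simpa using Subgroup.smul_mem_pointwise_smul x (MulAut.conj g) (P : Subgroup O7) hxP
  rw [hg] at hmem
  exact hmem

end CfsgLib.SmallGroups.Omega7Three
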